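import Groth.Agent.AmpleDesc5.Stage
import Groth.Agent.MorLib.BaseChangeLim
import Groth.Agent.AmpleVan.Components
import Groth.Agent.AmpleX.RelAffine
import Groth.Agent.AssPtX.FlatDvr17
import Groth.Agent.S4438
import Groth.Agent.EtFound.Descent

/-!
# Existence of an ample sheaf descends along field extensions (EGA IV 8.10.5 with the norm)
-/

set_option autoImplicit false
set_option maxHeartbeats 1000000
set_option synthInstance.maxHeartbeats 400000
set_option linter.style.haveILetI false
set_option backward.isDefEq.respectTransparency.types false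
set_option backward.isDefEq.respectTransparency false

universe u

open CategoryTheory CategoryTheory.Limits AlgebraicGeometry TopologicalSpace Opposite

namespace Groth.Agent.AmpleDesc5

variable (k : Type u) [Field k] (K : Type u) [Field K] [Algebra k K]

/-- The finitely generated subalgebras. -/
noncomputable def rings : Finset K ⥤ CommRingCat.{u} where
  obj s := CommRingCat.of (Algebra.adjoin k (s : Set K))
  map {s t} h := CommRingCat.ofHom
    (Subalgebra.inclusion (Algebra.adjoin_mono (Finset.coe_subset.2 (leOfHom h)))).toRingHom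

/-- The cocone of inclusions. -/
noncomputable def cocone : Cocone (rings k K) where
  pt := CommRingCat.of K
  ι := { app := fun s => CommRingCat.ofHom (Algebra.adjoin k (s : Set K)).val.toRingHom }

/-- `K` is the colimit of its finitely generated subalgebras. -/
noncomputable def isColimit : IsColimit (cocone k K) := by
  classical
  haveI : ReflectsColimit (rings k K) (forget CommRingCat.{u}) := reflectsColimit_of_reflectsIsomorphisms _ _
  refine isColimitOfReflects (forget CommRingCat.{u}) ?_
  refine Types.FilteredColimit.isColimitOf' _ _ (fun z => ?_) fun s x y h => ?_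
  · exact ⟨{z}, ⟨z, Algebra.subset_adjoin (Finset.mem_singleton_self z)⟩, rfl⟩
  · refine ⟨s, 𝟙 s, ?_⟩
    exact congrArg _ (Subtype.ext h)

/-- The system of affine schemes. -/
noncomputable def diagram : (Finset K)ᵒᵖ ⥤ Scheme.{u} := (rings k K).op ⋙ Scheme.Spec

/-- The limiting cone. -/
noncomputable def cone : Cone (diagram k K) := Scheme.Spec.mapCone (cocone k K).op

/-- `Spec K` is the limit. -/
noncomputable def isLimit : IsLimit (cone k K) := isLimitOfPreserves Scheme.Spec (isColimit k K).op

instance isAffine_obj (i : (Finset K)ᵒᵖ) : IsAffine ((diagram k K).obj i) :=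
  isAffine_Spec (CommRingCat.of (Algebra.adjoin k ((i.unop : Finset K) : Set K)))

instance isAffineHom_map {i j : (Finset K)ᵒᵖ} (f : i ⟶ j) : IsAffineHom ((diagram k K).map f) :=
  isAffineHom_of_isAffine _

/-- The structure maps to `Spec k`. -/
noncomputable def str (i : (Finset K)ᵒᵖ) : (diagram k K).obj i ⟶ Spec (CommRingCat.of k) :=
  Spec.map (CommRingCat.ofHom (algebraMap k (Algebra.adjoin k ((i.unop : Finset K) : Set K))))

theorem map_str {i j : (Finset K)ᵒᵖ} (f : i ⟶ j) : (diagram k K).map f ≫ str k K j = str k K i := by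
  show Spec.map ((rings k K).map f.unop) ≫ Spec.map _ = Spec.map _
  rw [← Spec.map_comp]
  rfl

theorem π_str (i : (Finset K)ᵒᵖ) :
    (cone k K).π.app i ≫ str k K i = Spec.map (CommRingCat.ofHom (algebraMap k K)) := by
  show Spec.map ((cocone k K).ι.app i.unop) ≫ Spec.map _ = Spec.map _
  rw [← Spec.map_comp]
  rfl

/-- An ample sheaf after a field extension gives one before. -/
theorem exists_isAmple_of_baseChange_field {X : Scheme.{u}} (p : X ⟶ Spec (CommRingCat.of k))
    [LocallyOfFiniteType p] [QuasiCompact p] [QuasiSeparated p]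
    (h : ∃ L' : (pullback p (Spec.map (CommRingCat.ofHom (algebraMap k K)))).Modules, CohB1.IsAmple L') :
    ∃ L : X.Modules, CohB1.IsAmple L := by
  classical
  obtain ⟨L', hL'⟩ := h
  let D := diagram k K
  let T : (Finset K)ᵒᵖ := op ∅
  let xi : pullback p (str k K T) ⟶ D.obj T := pullback.snd p (str k K T)
  let qX : pullback p (Spec.map (CommRingCat.ofHom (algebraMap k K))) ⟶ pullback p (str k K T) :=
    pullback.lift (pullback.fst _ _) (pullback.snd _ _ ≫ (cone k K).π.app T)
      (by rw [Category.assoc, π_str, pullback.condition])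
  have hX : IsPullback qX (pullback.snd p (Spec.map (CommRingCat.ofHom (algebraMap k K)))) xi
      ((cone k K).π.app T) := by
    refine IsPullback.of_right ?_ (pullback.lift_snd _ _ _) (IsPullback.of_hasPullback p (str k K T))
    rw [pullback.lift_fst, π_str]
    exact IsPullback.of_hasPullback _ _
  let D' := MorLib.BC.diag D xi
  have hc' := MorLib.BC.isLimitCone D xi (c := cone k K) hX (isLimit k K)
  haveI : ∀ {a b : Over T} (r : a ⟶ b), IsAffineHom (D'.map r) := fun r => MorLib.BC.isAffineHom_map _ xi r
  haveI : CompactSpace ↥(pullback p (str k K T)) := QuasiCompact.compactSpace_of_compactSpace xi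
  haveI : QuasiSeparatedSpace ↥(pullback p (str k K T)) := quasiSeparatedSpace_of_quasiSeparated xi
  haveI : ∀ a, CompactSpace (D'.obj a) := fun a => MorLib.BC.compactSpace_obj D xi a
  haveI : ∀ a, QuasiSeparatedSpace (D'.obj a) := fun a => MorLib.BC.quasiSeparatedSpace_obj D xi a
  obtain ⟨j, M, hM, -⟩ := exists_ample_stage D' hc' hL'
  -- a closed point of the stage
  let R := Algebra.adjoin k ((j.left.unop : Finset K) : Set K)
  haveI : Algebra.FiniteType k R := Algebra.FiniteType.adjoin_of_finite (Finset.finite_toSet _)
  obtain ⟨m, hm⟩ := Ideal.exists_maximal R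
  letI : Field (R ⧸ m) := Ideal.Quotient.field m
  haveI : Module.Finite k (R ⧸ m) := finite_of_finite_type_of_isJacobsonRing k (R ⧸ m)
  haveI : Algebra.FinitePresentation k (R ⧸ m) := Algebra.FinitePresentation.of_finiteType.1 inferInstance
  let τ : Spec (CommRingCat.of (R ⧸ m)) ⟶ D.obj j.left := Spec.map (CommRingCat.ofHom (Ideal.Quotient.mk m))
  let σ : Spec (CommRingCat.of (R ⧸ m)) ⟶ Spec (CommRingCat.of k) :=
    Spec.map (CommRingCat.ofHom (algebraMap k (R ⧸ m)))
  have hσ : τ ≫ str k K j.left = σ := by
    show Spec.map _ ≫ Spec.map _ = Spec.map _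
    rw [← Spec.map_comp]
    rfl
  let xj : D'.obj j ⟶ D.obj j.left := pullback.snd xi (D.map j.hom)
  have hj : IsPullback (pullback.fst xi (D.map j.hom) ≫ pullback.fst p (str k K T)) xj p (str k K j.left) := by
    have h1 := (IsPullback.of_hasPullback xi (D.map j.hom)).paste_horiz (IsPullback.of_hasPullback p (str k K T))
    rwa [map_str] at h1
  haveI : IsAffineHom τ := isAffineHom_of_isAffine _
  let g : pullback xj τ ⟶ X := pullback.fst xj τ ≫ pullback.fst xi (D.map j.hom) ≫ pullback.fst p (str k K T)
  have hg : IsPullback g (pullback.snd xj τ) p σ := by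
    rw [← hσ]
    exact (IsPullback.of_hasPullback xj τ).paste_horiz hj
  haveI : IsFinite σ := (IsFinite.SpecMap_iff _).2 (RingHom.finite_algebraMap.2 inferInstance)
  haveI : Module.Free k (R ⧸ m) := Module.Free.of_divisionRing k (R ⧸ m)
  haveI : Module.Flat k (R ⧸ m) := Module.Flat.of_free
  haveI : Flat σ := Flat.SpecMap_iff.2 ((RingHom.flat_algebraMap_iff (R := k) (S := R ⧸ m)).2 ‹_›)
  haveI : LocallyOfFinitePresentation σ := (HasRingHomProperty.Spec_iff (P := @LocallyOfFinitePresentation)).2
    (RingHom.finitePresentation_algebraMap.2 inferInstance)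
  haveI : Surjective σ := ⟨fun y => ⟨Classical.arbitrary _, Subsingleton.elim _ _⟩⟩
  haveI : IsFinite g := MorphismProperty.of_isPullback hg.flip inferInstance
  haveI : Flat g := MorphismProperty.of_isPullback hg.flip inferInstance
  haveI : LocallyOfFinitePresentation g := MorphismProperty.of_isPullback hg.flip inferInstance
  haveI : Surjective g := MorphismProperty.of_isPullback hg.flip inferInstance
  haveI : CompactSpace X := QuasiCompact.compactSpace_of_compactSpace p
  haveI : CompactSpace ↥(pullback xj τ) := QuasiCompact.compactSpace_of_compactSpace g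
  haveI : IsAffineHom (pullback.fst xj τ) := MorphismProperty.pullback_fst _ _ inferInstance
  have hN := AmpleVan.FiniteSurj.isAmple_pullback_of_isAffineHom (pullback.fst xj τ) hM
  obtain ⟨L, -, hL⟩ := (S4438.result p g (AssPtX.isFinLocFree_push g)).2
    ⟨_, hN.1, (AmpleX.isRelAmple_iff_isAmple (g ≫ p) _).2 hN⟩
  exact ⟨L, (AmpleX.isRelAmple_iff_isAmple p L).1 hL⟩

end Groth.Agent.AmpleDesc5
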