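import Groth.Agent.S4788
import Groth.Agent.S4792
import Groth.Agent.LimModLib.HomDescend
import Groth.Agent.AmpleX.Generated
import Groth.Agent.AmpleX.Separated
import Groth.Agent.H28.PBCores
import Groth.Agent.InvX.GenLocusPull
import Groth.Agent.QCoh.LocFree
import Groth.Agent.PnCoh.Unit
import Groth.Agent.PicClLib.Basic

/-!
# An ample sheaf on a limit of schemes comes from an ample sheaf at a stage (EGA IV 8.10.5.2)
-/

set_option autoImplicit false
set_option maxHeartbeats 1000000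
set_option linter.style.haveILetI false
set_option backward.isDefEq.respectTransparency.types false
set_option backward.isDefEq.respectTransparency false

universe u

open CategoryTheory CategoryTheory.Limits AlgebraicGeometry TopologicalSpace
open Groth.Agent.H23.PicMul

namespace Groth.Agent.AmpleDesc5

theorem isFP_of_isInvertible {X : Scheme.{u}} {L : X.Modules} (hL : PicF.IsInvertible L) : CohB1.IsFP L :=
  QCoh.isFP_of_isFinLocFree fun x => by
    obtain ⟨U, hx, ⟨e⟩⟩ := hL x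
    exact ⟨U, 1, hx, ⟨e ≪≫ (coproductUniqueIso fun _ : Fin 1 => Coh.structureModule (U : Scheme.{u})).symm⟩⟩

theorem isQCoh_of_isInvertible {X : Scheme.{u}} {L : X.Modules} (hL : PicF.IsInvertible L) : Coh.IsQCoh L :=
  QCoh.isQCoh_of_isFP (isFP_of_isInvertible hL)

/-- Generating loci of sections of invertible modules are retrocompact. -/
theorem isCompact_genLocus {X : Scheme.{u}} [CompactSpace X] [QuasiSeparatedSpace X] {M : X.Modules}
    (hM : PicF.IsInvertible M) (s : Coh.structureModule X ⟶ M) :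
    IsCompact (CohB1.genLocus M s : Set X) := by
  have hloc : ∀ x : X, ∃ O : X.Opens, x ∈ O ∧ IsAffineOpen O ∧ IsAffineOpen (CohB1.genLocus M s ⊓ O) := fun x => by
    obtain ⟨U, hxU, e, he⟩ := InvX.exists_frame hM x
    obtain ⟨O, hO, hxO, hOU⟩ := exists_isAffineOpen_mem_and_subset (x := x) (U := U) hxU
    obtain ⟨g, hg⟩ := (he.res hOU).exists_coord le_rfl (AModX.res M (le_top : O ≤ ⊤) (InvX.one s))
    rw [AModX.res_self] at hg
    refine ⟨O, hxO, hO, ?_⟩
    rw [InvX.genLocus_inf s (he.res hOU) hg]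
    exact hO.basicOpen g
  choose O hxO hO hO' using hloc
  obtain ⟨T, hT⟩ := isCompact_univ.elim_finite_subcover (fun x => (O x : Set X)) (fun x => (O x).2)
    (fun x _ => Set.mem_iUnion.2 ⟨x, hxO x⟩)
  have h : (CohB1.genLocus M s : Set X) = ⋃ x ∈ T, ((CohB1.genLocus M s ⊓ O x : X.Opens) : Set X) := by
    ext z
    simp only [Set.mem_iUnion, Opens.coe_inf, Set.mem_inter_iff]
    constructor
    · intro hz
      obtain ⟨x, hx, hzx⟩ := Set.mem_iUnion₂.1 (hT (Set.mem_univ z))
      exact ⟨x, hx, hz, hzx⟩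
    · rintro ⟨x, -, hz, -⟩
      exact hz
  rw [h]
  exact T.finite_toSet.isCompact_biUnion fun x _ => (hO' x).isCompact

variable {I : Type u} [SmallCategory I] [IsCofiltered I] (D : I ⥤ Scheme.{u}) {c : Cone D} (hc : IsLimit c)
  [∀ {i j : I} (f : i ⟶ j), IsAffineHom (D.map f)]
  [∀ i, CompactSpace (D.obj i)] [∀ i, QuasiSeparatedSpace (D.obj i)]

include hc in
/-- An invertible sheaf on the limit comes from an invertible sheaf at a stage. -/
theorem exists_invertible_stage {L : c.pt.Modules} (hL : PicF.IsInvertible L) :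
    ∃ (j : I) (M : (D.obj j).Modules), PicF.IsInvertible M ∧
      Nonempty ((Scheme.Modules.pullback (c.π.app j)).obj M ≅ L) := by
  haveI : ∀ (i j : I) (f : i ⟶ j), IsAffineHom (D.map f) := fun i j f => inferInstance
  haveI : Coh.IsQCoh L := isQCoh_of_isInvertible hL
  obtain ⟨i, -, M, hq, hfp, ⟨e⟩⟩ := S4788.result D c hc IsCofiltered.nonempty.some L (isFP_of_isInvertible hL)
  haveI := hq
  obtain ⟨j, φ, hj⟩ := (S4792.result D c hc i M hfp 1).1
    (H28.PBCores.isInvertible_iff_rank.1 (H23.PicMul.isInvertible_of_iso e.symm hL))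
  exact ⟨j, _, H28.PBCores.isInvertible_iff_rank.2 hj,
    ⟨(Scheme.Modules.pullbackComp _ _).app M ≪≫ (Scheme.Modules.pullbackCongr (c.w φ)).app M ≪≫ e⟩⟩

include hc in
/-- A section on the limit of a stage's invertible sheaf comes from a later stage, with its locus. -/
theorem exists_section_stage {i : I} {M : (D.obj i).Modules} (hM : PicF.IsInvertible M)
    (s : Coh.structureModule c.pt ⟶ (Scheme.Modules.pullback (c.π.app i)).obj M) :
    ∃ (j : I) (φ : j ⟶ i) (t : Coh.structureModule (D.obj j) ⟶ (Scheme.Modules.pullback (D.map φ)).obj M),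
      c.π.app j ⁻¹ᵁ CohB1.genLocus _ t = CohB1.genLocus _ s := by
  haveI : Coh.IsQCoh (Coh.structureModule (D.obj i)) := PnCoh.isQCoh_structureModule _
  obtain ⟨eO⟩ := PicClLib.nonempty_pullback_structureModule (c.π.app i)
  obtain ⟨k, h, hh⟩ := LimModLib.exists_hom_descend (hc := hc) (PnCoh.isQCoh_structureModule (D.obj i))
    (QCoh.isFP_of_isFinLocFree fun _ => ⟨⊤, 1, trivial, ⟨Scheme.Modules.restrictUnitIso _ ≪≫
      (coproductUniqueIso fun _ : Fin 1 => Coh.structureModule ((⊤ : (D.obj i).Opens) : Scheme.{u})).symm⟩⟩)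
    (isQCoh_of_isInvertible hM) (eO.hom ≫ s)
  obtain ⟨ek⟩ := PicClLib.nonempty_pullback_structureModule (D.map k.hom)
  refine ⟨k.left, k.hom, ek.inv ≫ h, ?_⟩
  let canO := (Scheme.Modules.pullbackComp (c.π.app k.left) (D.map k.hom) ≪≫
    Scheme.Modules.pullbackCongr (c.w k.hom)).app (Coh.structureModule (D.obj i))
  let canM := (Scheme.Modules.pullbackComp (c.π.app k.left) (D.map k.hom) ≪≫
    Scheme.Modules.pullbackCongr (c.w k.hom)).app M
  let e : Coh.structureModule c.pt ≅ (Scheme.Modules.pullback (c.π.app k.left)).obj (Coh.structureModule (D.obj k.left)) :=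
    eO.symm ≪≫ canO.symm ≪≫ (Scheme.Modules.pullback (c.π.app k.left)).mapIso ek
  rw [← InvX.genLocus_pullback (c.π.app k.left) (PicClLib.isInvertible_pullback _ hM) (ek.inv ≫ h) e]
  refine (InvX.genLocus_comp_iso _ canM).symm.trans (congrArg (CohB1.genLocus _) ?_)
  rw [Functor.map_comp, show e.hom = eO.inv ≫ canO.inv ≫ (Scheme.Modules.pullback (c.π.app k.left)).map ek.hom from rfl]
  simp only [Category.assoc]
  rw [← Functor.map_comp_assoc, ek.hom_inv_id, CategoryTheory.Functor.map_id, Category.id_comp, hh,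
    Iso.inv_hom_id_assoc]

include hc in
/-- An ample sheaf on the limit comes from an ample sheaf at some stage. -/
theorem exists_ample_stage {L : c.pt.Modules} (hL : CohB1.IsAmple L) :
    ∃ (j : I) (M : (D.obj j).Modules), CohB1.IsAmple M ∧
      Nonempty ((Scheme.Modules.pullback (c.π.app j)).obj M ≅ L) := by
  classical
  haveI : c.pt.IsSeparated := AmpleX.isSeparated_of_isAmple hL
  haveI : CompactSpace c.pt := hL.2.1
  obtain ⟨a, ha, κ, _, σ, hσa, -, hσc⟩ := AmpleX.exists_cover_genLocus hL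
  obtain ⟨i, M, hM, ⟨e⟩⟩ := exists_invertible_stage D hc hL.1
  have hMa : PicF.IsInvertible (CohB1.tensorPow M a) := InvX.isInvertible_tensorPow hM a
  have hcla : PicF.cl (CohB1.tensorPow L a) =
      PicF.cl ((Scheme.Modules.pullback (c.π.app i)).obj (CohB1.tensorPow M a)) := by
    show _ = PicF.pullCl (c.π.app i) (PicF.cl (CohB1.tensorPow M a))
    rw [cl_tensorPow, cl_tensorPow, pullCl_pow]
    exact congrArg (· ^ a) (cl_eq_iff.2 ⟨e.symm⟩)
  choose s hs using fun k => AmpleX.exists_section_of_cl_eq hcla (σ k)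
  choose j φ t ht using fun k => exists_section_stage D hc hMa (s k)
  choose b V hV hVe using fun k => exists_isAffineOpen_preimage_eq D c hc (CohB1.genLocus _ (σ k)) (hσa k)
  obtain ⟨l, hl⟩ := IsCofiltered.inf_objs_exists (insert i (Finset.univ.image j ∪ Finset.univ.image b))
  have pj : ∀ k, l ⟶ j k := fun k => (hl (by simp)).some
  have pb : ∀ k, l ⟶ b k := fun k => (hl (by simp)).some
  -- equalise the loci with affine opens
  have heq : ∀ k, c.π.app l ⁻¹ᵁ (D.map (pj k) ⁻¹ᵁ CohB1.genLocus _ (t k)) =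
      c.π.app l ⁻¹ᵁ (D.map (pb k) ⁻¹ᵁ V k) := fun k => by
    rw [← Scheme.Hom.comp_preimage, ← Scheme.Hom.comp_preimage, c.w, c.w, ht, hs, hVe]
  choose m χ hχ using fun k => exists_map_preimage_eq_map_preimage D c hc
    ((D.map (pj k)).isCompact_preimage (isCompact_genLocus (PicClLib.isInvertible_pullback _ hMa) (t k)))
    ((D.map (pb k)).isCompact_preimage (hV k).isCompact) (heq k)
  obtain ⟨n, hn⟩ := IsCofiltered.inf_objs_exists (insert l (Finset.univ.image m))
  obtain ⟨o, ρ, hρ⟩ : ∃ (o : I) (ρ : ∀ k, o ⟶ m k), ∃ φ' : o ⟶ i, ∀ k, ρ k ≫ χ k ≫ pj k ≫ φ k = φ' := by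
    obtain ⟨o, ρ₀, h, ho⟩ : ∃ (o : I) (ρ₀ : o ⟶ n) (h : o ⟶ i),
        ∀ k, ρ₀ ≫ (hn (Finset.mem_insert_of_mem (Finset.mem_image_of_mem m (Finset.mem_univ k)))).some ≫
          χ k ≫ pj k ≫ φ k = h := by
      let O : Finset I := insert n {i}
      let H : Finset (Σ' (X Y : I) (_ : X ∈ O) (_ : Y ∈ O), X ⟶ Y) := Finset.univ.image fun k : κ =>
        ⟨n, i, by simp [O], by simp [O],
          (hn (Finset.mem_insert_of_mem (Finset.mem_image_of_mem m (Finset.mem_univ k)))).some ≫
            χ k ≫ pj k ≫ φ k⟩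
      obtain ⟨o, T, hT⟩ := IsCofiltered.inf_exists O H
      exact ⟨o, T (by simp [O]), T (by simp [O]), fun k =>
        hT (by simp [O]) (by simp [O]) (Finset.mem_image_of_mem _ (Finset.mem_univ k))⟩
    exact ⟨o, fun k => ρ₀ ≫ (hn (Finset.mem_insert_of_mem (Finset.mem_image_of_mem m (Finset.mem_univ k)))).some,
      h, fun k => by rw [Category.assoc]; exact ho k⟩
  obtain ⟨φ', hφ'⟩ := hρ
  let W : κ → (D.obj o).Opens := fun k => D.map (ρ k) ⁻¹ᵁ (D.map (χ k) ⁻¹ᵁ (D.map (pb k) ⁻¹ᵁ V k))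
  obtain ⟨o', ψ, hψ⟩ := exists_map_eq_top D c hc (⨆ k, W k) (by
    rw [eq_top_iff]
    intro z _
    obtain ⟨k, hk⟩ := hσc z
    rw [Scheme.Hom.preimage_iSup, Opens.mem_iSup]
    refine ⟨k, ?_⟩
    show z ∈ c.π.app o ⁻¹ᵁ W k
    simp only [W]
    rw [← Scheme.Hom.comp_preimage, ← Scheme.Hom.comp_preimage, ← Scheme.Hom.comp_preimage]
    simp only [Category.assoc]
    rw [← D.map_comp, ← D.map_comp, c.w, hVe]
    exact hk)
  refine ⟨o', (Scheme.Modules.pullback (D.map (ψ ≫ φ'))).obj M, ?_,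
    ⟨(Scheme.Modules.pullbackComp _ _).app M ≪≫ (Scheme.Modules.pullbackCongr (c.w _)).app M ≪≫ e⟩⟩
  refine AmpleX.isAmple_iff.2 ⟨PicClLib.isInvertible_pullback _ hM, inferInstance, fun z => ?_⟩
  have hz : z ∈ D.map ψ ⁻¹ᵁ ⨆ k, W k := by rw [hψ]; trivial
  rw [Scheme.Hom.preimage_iSup, Opens.mem_iSup] at hz
  obtain ⟨k, hk⟩ := hz
  let p : o' ⟶ j k := ψ ≫ ρ k ≫ χ k ≫ pj k
  have hp : p ≫ φ k = ψ ≫ φ' := by simp [p, hφ' k]
  obtain ⟨e₁⟩ := PicClLib.nonempty_pullback_structureModule (D.map p)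
  have hcl : PicF.cl ((Scheme.Modules.pullback (D.map p)).obj
      ((Scheme.Modules.pullback (D.map (φ k))).obj (CohB1.tensorPow M a))) =
      PicF.cl (CohB1.tensorPow ((Scheme.Modules.pullback (D.map (ψ ≫ φ'))).obj M) a) := by
    show PicF.pullCl (D.map p) (PicF.pullCl (D.map (φ k)) (PicF.cl (CohB1.tensorPow M a))) = _
    rw [PicClLib.pullCl_comp, ← D.map_comp, hp, cl_tensorPow, cl_tensorPow, pullCl_pow]
    rfl
  obtain ⟨u, hu⟩ := AmpleX.exists_section_of_cl_eq hcl (e₁.symm.hom ≫ (Scheme.Modules.pullback (D.map p)).map (t k))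
  rw [InvX.genLocus_pullback (D.map p) (PicClLib.isInvertible_pullback _ hMa) (t k) e₁.symm] at hu
  have hloc : CohB1.genLocus _ u = D.map ψ ⁻¹ᵁ W k := by
    simp only [W]
    rw [← hχ k, hu]
    simp only [p, D.map_comp, Scheme.Hom.comp_preimage]
  refine ⟨a, ha, u, ?_, ?_⟩
  · rw [hloc]
    exact hk
  · rw [hloc]
    exact (((hV k).preimage (D.map (pb k))).preimage (D.map (χ k))).preimage (D.map (ρ k)) |>.preimage (D.map ψ)

end Groth.Agent.AmpleDesc5
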