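import Mathlib

/-!
# A residue field as a filtered colimit of localised finitely presented quotients
-/

set_option autoImplicit false
set_option linter.style.haveILetI false
set_option backward.isDefEq.respectTransparency.types false
set_option backward.isDefEq.respectTransparency false

universe u

open CategoryTheory CategoryTheory.Limits AlgebraicGeometry Opposite

namespace Groth.Agent.AmpleDesc5.Residue

variable {B : Type u} [CommRing B] {K : Type u} [Field K] (φ : B →+* K)

/-- Finitely many elements of the kernel and finitely many elements outside. -/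
def Idx : Type u := {q : Finset B × Finset B // (∀ a ∈ q.1, φ a = 0) ∧ ∀ g ∈ q.2, φ g ≠ 0}

noncomputable instance : PartialOrder (Idx φ) := Subtype.partialOrder _

instance : Nonempty (Idx φ) := ⟨⟨(∅, ∅), by simp⟩⟩

instance : IsDirectedOrder (Idx φ) := ⟨fun a b => by
  classical
  refine ⟨⟨(a.1.1 ∪ b.1.1, a.1.2 ∪ b.1.2), ?_, ?_⟩, ?_, ?_⟩
  · intro x hx
    rcases Finset.mem_union.1 hx with h | h
    exacts [a.2.1 x h, b.2.1 x h]
  · intro x hx
    rcases Finset.mem_union.1 hx with h | h
    exacts [a.2.2 x h, b.2.2 x h]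
  · exact ⟨Finset.subset_union_left, Finset.subset_union_left⟩
  · exact ⟨Finset.subset_union_right, Finset.subset_union_right⟩⟩

/-- The localised quotient. -/
abbrev R (q : Idx φ) : Type u :=
  Localization.Away (Ideal.Quotient.mk (Ideal.span (q.1.1 : Set B)) (∏ g ∈ q.1.2, g))

/-- The structure map. -/
noncomputable def α (q : Idx φ) : B →+* R φ q :=
  (algebraMap (B ⧸ Ideal.span (q.1.1 : Set B)) (R φ q)).comp (Ideal.Quotient.mk _)

theorem α_eq_zero (q : Idx φ) {a : B} (ha : a ∈ q.1.1) : α φ q a = 0 := by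
  rw [α, RingHom.comp_apply, Ideal.Quotient.eq_zero_iff_mem.2 (Ideal.subset_span ha), map_zero]

theorem isUnit_α (q : Idx φ) {g : B} (hg : g ∈ q.1.2) : IsUnit (α φ q g) := by
  refine isUnit_of_dvd_unit (y := α φ q (∏ g ∈ q.1.2, g)) (map_dvd _ (Finset.dvd_prod_of_mem _ hg)) ?_
  exact IsLocalization.Away.algebraMap_isUnit (Ideal.Quotient.mk (Ideal.span (q.1.1 : Set B)) (∏ g ∈ q.1.2, g))

theorem hom_ext (q : Idx φ) {C : Type u} [CommRing C] {f g : R φ q →+* C} (h : f.comp (α φ q) = g.comp (α φ q)) :
    f = g := by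
  refine IsLocalization.ringHom_ext (Submonoid.powers (Ideal.Quotient.mk (Ideal.span (q.1.1 : Set B)) (∏ g ∈ q.1.2, g))) ?_
  exact Ideal.Quotient.ringHom_ext h

/-- A ring map killing the relations and inverting the denominators factors. -/
theorem exists_lift (q : Idx φ) {C : Type u} [CommRing C] (ψ : B →+* C) (h0 : ∀ a ∈ q.1.1, ψ a = 0)
    (h1 : ∀ g ∈ q.1.2, IsUnit (ψ g)) : ∃ f : R φ q →+* C, f.comp (α φ q) = ψ := by
  have hle : Ideal.span (q.1.1 : Set B) ≤ RingHom.ker ψ := Ideal.span_le.2 fun a ha => h0 a ha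
  have hu : IsUnit (Ideal.Quotient.lift _ ψ (fun a ha => hle ha)
      (Ideal.Quotient.mk (Ideal.span (q.1.1 : Set B)) (∏ g ∈ q.1.2, g))) := by
    rw [Ideal.Quotient.lift_mk, map_prod]
    exact IsUnit.prod_iff.2 h1
  exact ⟨IsLocalization.Away.lift _ hu, by
    rw [α, ← RingHom.comp_assoc, IsLocalization.Away.lift_comp, Ideal.Quotient.lift_comp_mk]⟩

/-- The transition maps. -/
noncomputable def trans {q q' : Idx φ} (h : q ≤ q') : R φ q →+* R φ q' :=
  (exists_lift φ q (α φ q') (fun _ ha => α_eq_zero φ q' (h.1 ha)) fun _ hg => isUnit_α φ q' (h.2 hg)).choose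

theorem trans_comp {q q' : Idx φ} (h : q ≤ q') : (trans φ h).comp (α φ q) = α φ q' :=
  (exists_lift φ q (α φ q') (fun _ ha => α_eq_zero φ q' (h.1 ha)) fun _ hg => isUnit_α φ q' (h.2 hg)).choose_spec

/-- The map to the field. -/
noncomputable def ι (q : Idx φ) : R φ q →+* K :=
  (exists_lift φ q φ q.2.1 fun g hg => (q.2.2 g hg).isUnit).choose

theorem ι_comp (q : Idx φ) : (ι φ q).comp (α φ q) = φ :=
  (exists_lift φ q φ q.2.1 fun g hg => (q.2.2 g hg).isUnit).choose_spec

/-- The system of rings. -/
noncomputable def rings : Idx φ ⥤ CommRingCat.{u} where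
  obj q := CommRingCat.of (R φ q)
  map h := CommRingCat.ofHom (trans φ (leOfHom h))
  map_id q := CommRingCat.hom_ext (hom_ext φ q (by
    rw [CommRingCat.hom_ofHom, trans_comp, CommRingCat.hom_id, RingHom.id_comp]))
  map_comp {a b c} h h' := CommRingCat.hom_ext (hom_ext φ a (by
    rw [CommRingCat.hom_comp, CommRingCat.hom_ofHom, CommRingCat.hom_ofHom, CommRingCat.hom_ofHom,
      RingHom.comp_assoc, trans_comp, trans_comp, trans_comp]))

/-- The cocone to the field. -/
noncomputable def cocone : Cocone (rings φ) where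
  pt := CommRingCat.of K
  ι :=
    { app := fun q => CommRingCat.ofHom (ι φ q)
      naturality := fun a b h => CommRingCat.hom_ext (hom_ext φ a (by
        show ((ι φ b).comp (trans φ (leOfHom h))).comp (α φ a) = (ι φ a).comp (α φ a)
        rw [RingHom.comp_assoc, trans_comp, ι_comp, ι_comp])) }

/-- A field generated by fractions is the colimit of the localised quotients. -/
noncomputable def isColimit (hfrac : ∀ z : K, ∃ a b : B, φ b ≠ 0 ∧ z * φ b = φ a) : IsColimit (cocone φ) := by
  classical
  haveI : ReflectsColimit (rings φ) (forget CommRingCat.{u}) := reflectsColimit_of_reflectsIsomorphisms _ _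
  refine isColimitOfReflects (forget CommRingCat.{u}) ?_
  refine Types.FilteredColimit.isColimitOf' _ _ (fun z => ?_) fun q x y h => ?_
  · obtain ⟨a, b, hb, hz⟩ := hfrac z
    let q : Idx φ := ⟨(∅, {b}), by simp, by simpa using hb⟩
    obtain ⟨v, hv⟩ := (isUnit_α φ q (Finset.mem_singleton_self b : b ∈ q.1.2)).exists_right_inv
    refine ⟨q, α φ q a * v, ?_⟩
    show z = ι φ q (α φ q a * v)
    have h1 : φ b * ι φ q v = 1 := by rw [← congr($(ι_comp φ q) b), RingHom.comp_apply, ← map_mul, hv, map_one]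
    rw [map_mul, ← RingHom.comp_apply, ι_comp, ← hz, mul_assoc, h1, mul_one]
  · change R φ q at x y
    replace h : ι φ q x = ι φ q y := h
    obtain ⟨⟨c, s⟩, hc⟩ := IsLocalization.surj
      (Submonoid.powers (Ideal.Quotient.mk (Ideal.span (q.1.1 : Set B)) (∏ g ∈ q.1.2, g))) (x - y)
    obtain ⟨a, rfl⟩ := Ideal.Quotient.mk_surjective c
    have ha : φ a = 0 := by
      rw [← congr($(ι_comp φ q) a), RingHom.comp_apply, α, RingHom.comp_apply, ← hc, map_mul, map_sub, h,
        sub_self, zero_mul]
    let q' : Idx φ := ⟨(insert a q.1.1, q.1.2), fun x hx => by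
      rcases Finset.mem_insert.1 hx with rfl | hx
      exacts [ha, q.2.1 x hx], q.2.2⟩
    have hle : q ≤ q' := ⟨Finset.subset_insert _ _, subset_rfl⟩
    refine ⟨q', homOfLE hle, ?_⟩
    show trans φ hle x = trans φ hle y
    rw [← sub_eq_zero, ← map_sub]
    have h1 := congrArg (trans φ hle) hc
    rw [map_mul] at h1
    exact ((IsLocalization.map_units (R φ q) s).map (trans φ hle)).mul_left_eq_zero.1 (h1.trans (by
      show trans φ hle (α φ q a) = 0
      rw [← RingHom.comp_apply, trans_comp]
      exact α_eq_zero φ q' (Finset.mem_insert_self _ _)))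

end Groth.Agent.AmpleDesc5.Residue
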