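import Groth.Agent.AmpleDesc5.RelStage
import Groth.Agent.AmpleDesc5.Residue
import Groth.Agent.ConsPropLib.CoreProper
import Groth.Prelude.Def_ProCons
import Groth.Prelude.Def_RelProj

/-!
# Ind-constructibility of the loci of (quasi-)projectivity and relative ampleness (EGA IV 9.6.2)
-/

set_option autoImplicit false
set_option maxHeartbeats 1000000
set_option linter.style.haveILetI false
set_option backward.isDefEq.respectTransparency.types false
set_option backward.isDefEq.respectTransparency false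

universe u

open CategoryTheory CategoryTheory.Limits AlgebraicGeometry TopologicalSpace Topology Opposite

namespace Groth.Agent.AmpleDesc5

/-- A property of base changes which is stable and comes from stages has an ind-constructible locus of points. -/
theorem isIndConstructible_of_stage {S : Scheme.{u}} (Q : ∀ {T : Scheme.{u}}, (T ⟶ S) → Prop)
    (hmono : ∀ {T T' : Scheme.{u}} (τ : T ⟶ S) (a : T' ⟶ T), Q τ → Q (a ≫ τ))
    (hstage : ∀ {I : Type u} [SmallCategory I] [IsCofiltered I] (E : I ⥤ Scheme.{u}) {c : Cone E},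
      IsLimit c → (∀ i, IsAffine (E.obj i)) → ∀ {i : I} (τ : E.obj i ⟶ S), Q (c.π.app i ≫ τ) →
        ∃ (j : I) (φ : j ⟶ i), Q (E.map φ ≫ τ)) :
    ProCons.IsIndConstructible {s : S | Q (S.fromSpecResidueField s)} := by
  classical
  intro x
  obtain ⟨V, hV, hxV, -⟩ := exists_isAffineOpen_mem_and_subset (x := x) (U := ⊤) trivial
  refine ⟨V, V.2, hxV, {T | IsLocallyConstructible T ∧ T ⊆ Subtype.val ⁻¹' {s : S | Q (S.fromSpecResidueField s)}},
    fun T hT => hT.1, ?_⟩
  refine subset_antisymm ?_ (Set.sUnion_subset fun T hT => hT.2)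
  rintro ⟨s, hsV⟩ hs
  change Q (S.fromSpecResidueField s) at hs
  let B := Γ(S, V)
  let φ : B →+* S.residueField s := (S.evaluation V s hsV).hom
  have hev : ∀ (z : S) (hz : z ∈ V),
      Spec.map (S.evaluation V z hz) ≫ hV.fromSpec = S.fromSpecResidueField z := fun z hz => by
    rw [← Scheme.germ_residue, Spec.map_comp, Category.assoc]
    rw [show Spec.map (S.presheaf.germ V z hz) ≫ hV.fromSpec = S.fromSpecStalk z from
      hV.fromSpecStalk_eq_fromSpecStalk hz]
    rfl
  have hfrac : ∀ z : S.residueField s, ∃ a b : B, φ b ≠ 0 ∧ z * φ b = φ a := fun z => by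
    obtain ⟨w, rfl⟩ := S.residue_surjective s z
    letI : Algebra B (S.presheaf.stalk s) := (S.presheaf.germ V s hsV).hom.toAlgebra
    haveI : IsLocalization (hV.primeIdealOf ⟨s, hsV⟩).asIdeal.primeCompl (S.presheaf.stalk s) :=
      hV.isLocalization_stalk ⟨s, hsV⟩
    obtain ⟨⟨a, b⟩, hab⟩ := IsLocalization.surj (hV.primeIdealOf ⟨s, hsV⟩).asIdeal.primeCompl w
    refine ⟨a, b, ?_, ?_⟩
    · exact (IsLocalization.map_units (S.presheaf.stalk s) b).map (S.residue s).hom |>.ne_zero
    · show S.residue s w * S.residue s (S.presheaf.germ V s hsV b) = S.residue s (S.presheaf.germ V s hsV a)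
      rw [← map_mul]
      exact congrArg _ hab
  let E : (Residue.Idx φ)ᵒᵖ ⥤ Scheme.{u} := (Residue.rings φ).op ⋙ Scheme.Spec
  let c : Cone E := Scheme.Spec.mapCone (Residue.cocone φ).op
  have hc : IsLimit c := isLimitOfPreserves Scheme.Spec (Residue.isColimit φ hfrac).op
  let σ : ∀ q : (Residue.Idx φ)ᵒᵖ, E.obj q ⟶ S := fun q =>
    Spec.map (CommRingCat.ofHom (Residue.α φ q.unop)) ≫ hV.fromSpec
  have hσ : ∀ {q q' : (Residue.Idx φ)ᵒᵖ} (r : q' ⟶ q), E.map r ≫ σ q = σ q' := fun {q q'} r => by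
    show Spec.map ((Residue.rings φ).map r.unop) ≫ Spec.map (CommRingCat.ofHom (Residue.α φ q.unop)) ≫ hV.fromSpec =
      Spec.map (CommRingCat.ofHom (Residue.α φ q'.unop)) ≫ hV.fromSpec
    rw [← Spec.map_comp_assoc]
    congr 2
    exact CommRingCat.hom_ext (Residue.trans_comp φ (leOfHom r.unop))
  let i : (Residue.Idx φ)ᵒᵖ := op (Classical.arbitrary _)
  have hlim : c.π.app i ≫ σ i = S.fromSpecResidueField s := by
    rw [← hev s hsV]
    show Spec.map ((Residue.cocone φ).ι.app i.unop) ≫ Spec.map (CommRingCat.ofHom (Residue.α φ i.unop)) ≫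
      hV.fromSpec = _
    rw [← Spec.map_comp_assoc]
    congr 2
    exact CommRingCat.hom_ext (Residue.ι_comp φ i.unop)
  obtain ⟨q, r, hq⟩ := hstage E hc (fun q => inferInstanceAs (IsAffine (Spec _))) (σ i) (hlim ▸ hs)
  rw [hσ] at hq
  haveI : IsAffine (V : Scheme.{u}) := hV
  let O : B → Set (V : Scheme.{u}) := fun a => (V.ι ⁻¹ᵁ S.basicOpen a : Set (V : Scheme.{u}))
  have hO : ∀ a, IsConstructible (O a) := fun a => by
    refine IsRetrocompact.isConstructible (V.ι ⁻¹ᵁ S.basicOpen a).2 ?_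
    refine IsCompact.isRetrocompact (V.ι.isOpenEmbedding.isInducing.isCompact_preimage'
      (hV.basicOpen a).isCompact ?_) (V.ι ⁻¹ᵁ S.basicOpen a).2
    rw [← Scheme.Hom.coe_opensRange, Scheme.Opens.opensRange_ι]
    exact S.basicOpen_le a
  refine Set.mem_sUnion.2 ⟨(⋂ a ∈ (q.unop.1.1 : Set B), (O a)ᶜ) ∩ ⋂ g ∈ (q.unop.1.2 : Set B), O g,
    ⟨IsConstructible.isLocallyConstructible ((IsConstructible.biInter (Finset.finite_toSet _) fun a _ =>
      (hO a).compl).inter (IsConstructible.biInter (Finset.finite_toSet _) fun a _ => hO a)), ?_⟩, ?_⟩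
  · rintro ⟨z, hz⟩ ⟨hz0, hz1⟩
    simp only [Set.mem_iInter] at hz0 hz1
    obtain ⟨ψ, hψ⟩ := Residue.exists_lift φ q.unop (S.evaluation V z hz).hom
      (fun a ha => (S.evaluation_eq_zero_iff_notMem_basicOpen z hz a).2 (hz0 a ha))
      (fun g hg => ((S.evaluation_ne_zero_iff_mem_basicOpen z hz g).2 (hz1 g hg)).isUnit)
    show Q (S.fromSpecResidueField z)
    rw [← hev z hz, show Spec.map (S.evaluation V z hz) ≫ hV.fromSpec = Spec.map (CommRingCat.ofHom ψ) ≫ σ q by
      show _ = Spec.map _ ≫ Spec.map _ ≫ hV.fromSpec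
      rw [← Spec.map_comp_assoc]
      congr 2
      exact CommRingCat.hom_ext hψ.symm]
    exact hmono (σ q) _ hq
  · refine ⟨Set.mem_iInter₂.2 fun a ha => ?_, Set.mem_iInter₂.2 fun g hg => ?_⟩
    · exact (S.evaluation_eq_zero_iff_notMem_basicOpen s hsV a).1 (q.unop.2.1 a ha)
    · exact (S.evaluation_ne_zero_iff_mem_basicOpen s hsV g).1 (q.unop.2.2 g hg)

variable {X Y S : Scheme.{u}} (f : X ⟶ Y) (g : Y ⟶ S)

/-- The morphism on fibres is a base change of the morphism. -/
theorem isPullback_fibreMap {T : Scheme.{u}} (τ : T ⟶ S) :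
    IsPullback (pullback.fst (f ≫ g) τ)
      (pullback.lift (pullback.fst (f ≫ g) τ ≫ f) (pullback.snd (f ≫ g) τ)
        ((Category.assoc _ _ _).trans pullback.condition) : pullback (f ≫ g) τ ⟶ pullback g τ)
      f (pullback.fst g τ) :=
  IsPullback.of_bot (by rw [pullback.lift_snd]; exact IsPullback.of_hasPullback _ _)
    (pullback.lift_fst _ _ _).symm (IsPullback.of_hasPullback g τ)

/-- The change of fibre products along `a`. -/
noncomputable def stepMap {T T' : Scheme.{u}} (τ : T ⟶ S) (a : T' ⟶ T) : pullback g (a ≫ τ) ⟶ pullback g τ :=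
  pullback.lift (pullback.fst g (a ≫ τ)) (pullback.snd g (a ≫ τ) ≫ a) (by rw [Category.assoc, pullback.condition])

theorem stepMap_fst {T T' : Scheme.{u}} (τ : T ⟶ S) (a : T' ⟶ T) :
    stepMap g τ a ≫ pullback.fst g τ = pullback.fst g (a ≫ τ) := pullback.lift_fst _ _ _

/-- The square comparing the two base changes. -/
theorem isPullback_step {T T' : Scheme.{u}} (τ : T ⟶ S) (a : T' ⟶ T) :
    IsPullback (pullback.fst (pullback.snd f (pullback.fst g τ)) (stepMap g τ a) ≫ pullback.fst f (pullback.fst g τ))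
      (pullback.snd (pullback.snd f (pullback.fst g τ)) (stepMap g τ a)) f (pullback.fst g (a ≫ τ)) := by
  rw [← stepMap_fst g τ a]
  exact (IsPullback.of_hasPullback _ _).paste_horiz (IsPullback.of_hasPullback f (pullback.fst g τ))

variable [QuasiCompact f] [QuasiSeparated f] [QuasiCompact g] [QuasiSeparated g]

/-- Relative ampleness after base change to `T`. -/
def RA (L : X.Modules) {T : Scheme.{u}} (τ : T ⟶ S) : Prop :=
  RelAmple.IsRelAmple (pullback.snd f (pullback.fst g τ)) ((Scheme.Modules.pullback (pullback.fst f (pullback.fst g τ))).obj L)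

/-- Quasi-projectivity after base change to `T`. -/
def QA {T : Scheme.{u}} (τ : T ⟶ S) : Prop :=
  ∃ M : (pullback f (pullback.fst g τ)).Modules, RelAmple.IsRelAmple (pullback.snd f (pullback.fst g τ)) M

/-- Projectivity after base change to `T`. -/
def PA {T : Scheme.{u}} (τ : T ⟶ S) : Prop :=
  IsProper (pullback.snd f (pullback.fst g τ)) ∧ QA f g τ

omit [QuasiSeparated f] [QuasiSeparated g] [QuasiCompact g] [QuasiCompact f] in
theorem RA_mono {L : X.Modules} {T T' : Scheme.{u}} (τ : T ⟶ S) (a : T' ⟶ T) (h : RA f g L τ) :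
    RA f g L (a ≫ τ) :=
  isRelAmple_congr (isPullback_step f g τ a) (IsPullback.of_hasPullback _ _)
    (isRelAmple_of_moduleIso ((Scheme.Modules.pullbackComp _ _).app L)
      (AmpleX.isRelAmple_baseChange _ (stepMap g τ a) h))

omit [QuasiSeparated f] [QuasiSeparated g] [QuasiCompact g] [QuasiCompact f] in
theorem QA_mono {T T' : Scheme.{u}} (τ : T ⟶ S) (a : T' ⟶ T) (h : QA f g τ) : QA f g (a ≫ τ) := by
  obtain ⟨M, hM⟩ := h
  let e := (isPullback_step f g τ a).isoPullback
  have h1 := isRelAmple_of_iso_source e.symm _ (AmpleX.isRelAmple_baseChange _ (stepMap g τ a) hM)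
  rw [show e.symm.hom ≫ pullback.snd (pullback.snd f (pullback.fst g τ)) (stepMap g τ a) =
    pullback.snd f (pullback.fst g (a ≫ τ)) from (isPullback_step f g τ a).isoPullback_inv_snd] at h1
  exact ⟨_, h1⟩

omit [QuasiSeparated f] [QuasiSeparated g] [QuasiCompact g] [QuasiCompact f] in
theorem PA_mono {T T' : Scheme.{u}} (τ : T ⟶ S) (a : T' ⟶ T) (h : PA f g τ) : PA f g (a ≫ τ) := by
  obtain ⟨hp, hQ⟩ := h
  haveI := hp
  haveI : IsProper (pullback.snd (pullback.snd f (pullback.fst g τ)) (stepMap g τ a)) :=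
    MorphismProperty.pullback_snd _ _ inferInstance
  refine ⟨?_, QA_mono f g τ a hQ⟩
  rw [← (isPullback_step f g τ a).isoPullback_inv_snd]
  infer_instance

section Stage

variable {I : Type u} [SmallCategory I] [IsCofiltered I] (E : I ⥤ Scheme.{u}) {c : Cone E} (hc : IsLimit c)
  (hA : ∀ i, IsAffine (E.obj i)) {i : I} (τ : E.obj i ⟶ S)

include hc hA

omit [QuasiCompact f] [QuasiSeparated f] in
/-- The system of base changes of `g` at the stages, with `f` over its first term. -/
theorem exists_system :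
    ∃ (D : Over i ⥤ Scheme.{u}) (d : Cone D) (_ : IsLimit d) (_ : ∀ {a b : Over i} (r : a ⟶ b), IsAffineHom (D.map r))
      (_ : ∀ a, CompactSpace (D.obj a)) (_ : ∀ a, QuasiSeparatedSpace (D.obj a))
      (eT : D.obj (Over.mk (𝟙 i)) ≅ pullback g τ) (eL : d.pt ≅ pullback g (c.π.app i ≫ τ))
      (em : ∀ a : Over i, D.obj a ≅ pullback g (E.map a.hom ≫ τ)),
      (eL.hom ≫ pullback.fst g (c.π.app i ≫ τ) = d.π.app (Over.mk (𝟙 i)) ≫ eT.hom ≫ pullback.fst g τ) ∧
      ∀ (a : Over i) (r : a ⟶ Over.mk (𝟙 i)),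
        (em a).hom ≫ pullback.fst g (E.map a.hom ≫ τ) = D.map r ≫ eT.hom ≫ pullback.fst g τ := by
  haveI := hA
  haveI : ∀ {i j : I} (f : i ⟶ j), IsAffineHom (E.map f) := fun f => isAffineHom_of_isAffine _
  let v := pullback.snd g τ
  have hX := IsPullback.of_hasPullback v (c.π.app i)
  haveI : CompactSpace ↥(pullback g τ) := QuasiCompact.compactSpace_of_compactSpace v
  haveI : QuasiSeparatedSpace ↥(pullback g τ) := quasiSeparatedSpace_of_quasiSeparated v
  have h1 := hX.paste_horiz (IsPullback.of_hasPullback g τ)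
  let em : ∀ a : Over i, (MorLib.BC.diag E v).obj a ≅ pullback g (E.map a.hom ≫ τ) := fun a =>
    ((IsPullback.of_hasPullback v (E.map a.hom)).paste_horiz (IsPullback.of_hasPullback g τ)).isoPullback
  haveI : IsIso (E.map (Over.mk (𝟙 i)).hom) := by
    show IsIso (E.map (𝟙 i))
    infer_instance
  refine ⟨MorLib.BC.diag E v, MorLib.BC.cone E v hX, MorLib.BC.isLimitCone E v hX hc,
    fun r => MorLib.BC.isAffineHom_map E v r, fun a => MorLib.BC.compactSpace_obj E v a,
    fun a => MorLib.BC.quasiSeparatedSpace_obj E v a, asIso (pullback.fst v (E.map (Over.mk (𝟙 i)).hom)),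
    h1.isoPullback, em, ?_, fun a r => ?_⟩
  · rw [h1.isoPullback_hom_fst]
    exact (MorLib.BC.proj_fst_assoc E v hX (Over.mk (𝟙 i)) (pullback.fst g τ)).symm
  · show _ = (MorLib.BC.diag E v).map r ≫ pullback.fst v _ ≫ pullback.fst g τ
    rw [← Category.assoc ((MorLib.BC.diag E v).map r), MorLib.BC.map_fst]
    exact IsPullback.isoPullback_hom_fst _

omit hc hA in
omit [QuasiCompact g] [QuasiSeparated g] [QuasiCompact f] [QuasiSeparated f] in
/-- Transport of squares along the identifications of the system. -/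
theorem isPullback_transport {Z D₀ DL T' : Scheme.{u}} {σ : T' ⟶ S} {q : D₀ ⟶ Y} {m : DL ⟶ D₀}
    (e : DL ≅ pullback g σ) (he : e.hom ≫ pullback.fst g σ = m ≫ q) {a : Z ⟶ pullback f q} {b : Z ⟶ DL}
    (sq : IsPullback a b (pullback.snd f q) m) :
    IsPullback (a ≫ pullback.fst f q) (b ≫ e.hom) f (pullback.fst g σ) := by
  refine (sq.paste_horiz (IsPullback.of_hasPullback f q)).of_iso (Iso.refl _) (Iso.refl _) e (Iso.refl _)
    (by simp) (by simp) (by simp) (by simp [he])

theorem RA_stage {L : X.Modules} (hL : PicF.IsInvertible L) (h : RA f g L (c.π.app i ≫ τ)) :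
    ∃ (j : I) (φ : j ⟶ i), RA f g L (E.map φ ≫ τ) := by
  obtain ⟨D, d, hd, hDa, hDc, hDq, eT, eL, em, hL', hm⟩ := exists_system g E hc hA τ
  haveI := @hDa; haveI := hDc; haveI := hDq
  let q := eT.hom ≫ pullback.fst g τ
  let f₀ := pullback.snd f q
  haveI : QuasiCompact f₀ := MorphismProperty.pullback_snd _ _ inferInstance
  haveI : QuasiSeparated f₀ := MorphismProperty.pullback_snd _ _ inferInstance
  have sqL := isPullback_transport f g eL hL' (IsPullback.of_hasPullback f₀ (d.π.app (Over.mk (𝟙 i))))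
  have h1 := isRelAmple_congr (IsPullback.of_hasPullback f (pullback.fst g (c.π.app i ≫ τ))) sqL h
  have h2 : RelAmple.IsRelAmple (pullback.snd f₀ (d.π.app (Over.mk (𝟙 i))))
      ((Scheme.Modules.pullback (pullback.fst f₀ (d.π.app (Over.mk (𝟙 i))))).obj
        ((Scheme.Modules.pullback (pullback.fst f q)).obj L)) :=
    isRelAmple_of_moduleIso ((Scheme.Modules.pullbackComp _ _).app L).symm (isRelAmple_of_comp_iso eL h1)
  obtain ⟨a, r, ha⟩ := exists_isRelAmple_stage D hd f₀ (PicClLib.isInvertible_pullback _ hL) h2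
  refine ⟨a.left, a.hom, ?_⟩
  exact isRelAmple_congr (isPullback_transport f g (em a) (hm a r) (IsPullback.of_hasPullback f₀ (D.map r)))
    (IsPullback.of_hasPullback _ _)
    (isRelAmple_comp_iso (em a) (isRelAmple_of_moduleIso ((Scheme.Modules.pullbackComp _ _).app L) ha))

theorem QA_stage (h : QA f g (c.π.app i ≫ τ)) : ∃ (j : I) (φ : j ⟶ i), QA f g (E.map φ ≫ τ) := by
  obtain ⟨D, d, hd, hDa, hDc, hDq, eT, eL, em, hL', hm⟩ := exists_system g E hc hA τ
  haveI := @hDa; haveI := hDc; haveI := hDq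
  let q := eT.hom ≫ pullback.fst g τ
  let f₀ := pullback.snd f q
  haveI : QuasiCompact f₀ := MorphismProperty.pullback_snd _ _ inferInstance
  haveI : QuasiSeparated f₀ := MorphismProperty.pullback_snd _ _ inferInstance
  have sqL := isPullback_transport f g eL hL' (IsPullback.of_hasPullback f₀ (d.π.app (Over.mk (𝟙 i))))
  obtain ⟨L, hL⟩ := h
  have h1 := isRelAmple_of_iso_source sqL.isoPullback _ hL
  rw [sqL.isoPullback_hom_snd] at h1
  obtain ⟨a, r, M, ha⟩ := exists_relAmple_stage D hd f₀ ⟨_, isRelAmple_of_comp_iso eL h1⟩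
  have sqa := isPullback_transport f g (em a) (hm a r) (IsPullback.of_hasPullback f₀ (D.map r))
  have h2 := isRelAmple_of_iso_source sqa.isoPullback.symm _ (isRelAmple_comp_iso (em a) ha)
  rw [show sqa.isoPullback.symm.hom ≫ pullback.snd f₀ (D.map r) ≫ (em a).hom =
    pullback.snd f (pullback.fst g (E.map a.hom ≫ τ)) from sqa.isoPullback_inv_snd] at h2
  exact ⟨a.left, a.hom, _, h2⟩

omit [QuasiCompact f] [QuasiSeparated f] in
theorem proper_stage [LocallyOfFinitePresentation f] [QuasiCompact f] [QuasiSeparated f]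
    (h : IsProper (pullback.snd f (pullback.fst g (c.π.app i ≫ τ)))) :
    ∃ (j : I) (φ : j ⟶ i), IsProper (pullback.snd f (pullback.fst g (E.map φ ≫ τ))) := by
  haveI := hA
  haveI : ∀ {i j : I} (f : i ⟶ j), IsAffineHom (E.map f) := fun f => isAffineHom_of_isAffine _
  let v := pullback.snd g τ
  let f₀ := pullback.snd f (pullback.fst g τ)
  haveI : LocallyOfFinitePresentation f₀ := MorphismProperty.pullback_snd _ _ inferInstance
  haveI : QuasiCompact f₀ := MorphismProperty.pullback_snd _ _ inferInstance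
  haveI : QuasiSeparated f₀ := MorphismProperty.pullback_snd _ _ inferInstance
  haveI : CompactSpace ↥(pullback g τ) := QuasiCompact.compactSpace_of_compactSpace v
  haveI : MorphismProperty.RespectsIso (@LocallyOfFinitePresentation : MorphismProperty Scheme.{u}) :=
    MorphismProperty.IsStableUnderBaseChange.respectsIso
  have hY : IsPullback (stepMap g τ (c.π.app i)) (pullback.snd g (c.π.app i ≫ τ)) v (c.π.app i) :=
    IsPullback.of_right (by rw [stepMap_fst]; exact IsPullback.of_hasPullback _ _) (pullback.lift_snd _ _ _)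
      (IsPullback.of_hasPullback g τ)
  let u := (isPullback_step f g τ (c.π.app i)).isoPullback
  haveI := h
  have hp : IsProper (pullback.snd f₀ (stepMap g τ (c.π.app i))) := by
    rw [← (isPullback_step f g τ (c.π.app i)).isoPullback_hom_snd]
    infer_instance
  obtain ⟨j, φ, Xj, Yj, fj, gj, pY, pX, hYj, hXj, hfj⟩ := MorLib.Desc.descend₂ E c hc
    (P := @IsProper) ConsPropLib.core_isProper f₀ v inferInstance
    (pullback.snd f₀ (stepMap g τ (c.π.app i))) (pullback.snd g (c.π.app i ≫ τ)) (stepMap g τ (c.π.app i))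
    (pullback.fst _ _) hY (IsPullback.of_hasPullback _ _) hp
  refine ⟨j, φ, ?_⟩
  have hY2 : IsPullback (stepMap g τ (E.map φ)) (pullback.snd g (E.map φ ≫ τ)) v (E.map φ) :=
    IsPullback.of_right (by rw [stepMap_fst]; exact IsPullback.of_hasPullback _ _) (pullback.lift_snd _ _ _)
      (IsPullback.of_hasPullback g τ)
  let l := hY2.isoIsPullback _ _ hYj
  have hl : l.hom ≫ pY = stepMap g τ (E.map φ) := IsPullback.isoIsPullback_hom_fst _ _ hY2 hYj
  haveI := hfj
  haveI : IsProper (fj ≫ l.inv) := inferInstance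
  have sq : IsPullback pX (fj ≫ l.inv) f₀ (stepMap g τ (E.map φ)) :=
    hXj.of_iso (Iso.refl _) (Iso.refl _) l.symm (Iso.refl _) (by simp) (by simp) (by simp) (by simp [← hl])
  have hp2 : IsProper (pullback.snd f₀ (stepMap g τ (E.map φ))) :=
    MorLib.Desc.of_two @IsProper sq (IsPullback.of_hasPullback _ _) inferInstance
  haveI := hp2
  rw [← (isPullback_step f g τ (E.map φ)).isoPullback_inv_snd]
  infer_instance

omit [QuasiCompact f] [QuasiSeparated f] in
theorem PA_stage [LocallyOfFinitePresentation f] [QuasiCompact f] [QuasiSeparated f]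
    (h : PA f g (c.π.app i ≫ τ)) : ∃ (j : I) (φ : j ⟶ i), PA f g (E.map φ ≫ τ) := by
  obtain ⟨j₁, φ₁, h₁⟩ := QA_stage f g E hc hA τ h.2
  obtain ⟨j₂, φ₂, h₂⟩ := proper_stage f g E hc hA τ h.1
  let k : Over i := IsCofiltered.min (Over.mk φ₁) (Over.mk φ₂)
  let a : k ⟶ Over.mk φ₁ := IsCofiltered.minToLeft _ _
  let b : k ⟶ Over.mk φ₂ := IsCofiltered.minToRight _ _
  refine ⟨k.left, k.hom, ?_, ?_⟩
  · rw [show k.hom = b.left ≫ φ₂ from (Over.w b).symm, E.map_comp, Category.assoc]
    haveI := h₂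
    haveI : IsProper (pullback.snd (pullback.snd f (pullback.fst g (E.map φ₂ ≫ τ))) (stepMap g (E.map φ₂ ≫ τ) (E.map b.left))) :=
      MorphismProperty.pullback_snd _ _ inferInstance
    rw [← (isPullback_step f g (E.map φ₂ ≫ τ) (E.map b.left)).isoPullback_inv_snd]
    infer_instance
  · rw [show k.hom = a.left ≫ φ₁ from (Over.w a).symm, E.map_comp, Category.assoc]
    exact QA_mono f g (E.map φ₁ ≫ τ) (E.map a.left) h₁

end Stage

end Groth.Agent.AmpleDesc5
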