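import Groth.Agent.AmpleDesc5.Stage
import Groth.Agent.AmpleVan.AmpleNear
import Groth.Agent.AmpleVan.Components
import Groth.Agent.AmpleX.RelAffine
import Groth.Agent.AmpleX.Rel
import Groth.Agent.AmpleX.BaseChange
import Groth.Agent.ConsPropLib.CoreProper
import Groth.Agent.ConsPropLib.Fibre
import Groth.Agent.Quiet5.AmpleFpqc
import Groth.Agent.FlatPt5.Descent

/-!
# The ample locus of a proper morphism of finite presentation (EGA IV 9.6.4, 8.10.5)
-/

set_option autoImplicit false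
set_option maxHeartbeats 1000000
set_option synthInstance.maxHeartbeats 400000
set_option linter.style.haveILetI false
set_option backward.isDefEq.respectTransparency.types false
set_option backward.isDefEq.respectTransparency false

universe u

open CategoryTheory CategoryTheory.Limits AlgebraicGeometry TopologicalSpace Topology
open Groth.Agent.ConsPropLib
open scoped Set.Notation

namespace Groth.Agent.AmpleDesc5

/-- Ampleness on a fibre is insensitive to base change. -/
theorem isAmple_fibre_iff {X S X' S' : Scheme.{u}} {p : X' ⟶ X} {u' : X' ⟶ S'} {u : X ⟶ S} {h : S' ⟶ S}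
    (sq : IsPullback p u' u h) [QuasiCompact u] {L : X.Modules} (hL : PicF.IsInvertible L) (s' : S') :
    CohB1.IsAmple ((Scheme.Modules.pullback (u'.fiberι s')).obj ((Scheme.Modules.pullback p).obj L)) ↔
      CohB1.IsAmple ((Scheme.Modules.pullback (u.fiberι (h s'))).obj L) := by
  obtain ⟨e, he, hc⟩ := exists_fibre_pullback sq s'
  let t : (Scheme.Modules.pullback e).obj ((Scheme.Modules.pullback (u.fiberι (h s'))).obj L) ≅
      (Scheme.Modules.pullback (u'.fiberι s')).obj ((Scheme.Modules.pullback p).obj L) :=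
    (Scheme.Modules.pullbackComp _ _).app L ≪≫ (Scheme.Modules.pullbackCongr hc).app L ≪≫
      ((Scheme.Modules.pullbackComp _ _).app L).symm
  let A := S.residueField (h s')
  let B := S'.residueField s'
  letI : Algebra A B := (h.residueFieldMap s').hom.toAlgebra
  haveI : IsAffineHom (Spec.map (h.residueFieldMap s')) := isAffineHom_of_isAffine _
  haveI : IsAffineHom e := MorphismProperty.of_isPullback he.flip inferInstance
  haveI : QuasiCompact u' := MorphismProperty.of_isPullback sq inferInstance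
  haveI : CompactSpace ↥(u'.fiber s') :=
    QuasiCompact.compactSpace_of_compactSpace (u'.fiberToSpecResidueField s')
  constructor
  · intro ha
    haveI : Module.Free A B := Module.Free.of_divisionRing A B
    haveI : Module.Flat A B := Module.Flat.of_free
    exact Quiet5.AmpleFpqc.isAmple_of_pullback (A := A) (B := B) he
      ⟨fun y => ⟨Classical.arbitrary _, Subsingleton.elim _ _⟩⟩ (PicClLib.isInvertible_pullback _ hL)
      (AmpleX.isAmple_of_iso t.symm ha)
  · intro ha
    exact AmpleX.isAmple_of_iso t (AmpleVan.FiniteSurj.isAmple_pullback_of_isAffineHom e ha)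

open NoethApprox in
/-- A proper morphism of finite presentation with an invertible sheaf has a Noetherian model. -/
theorem exists_model {A : CommRingCat.{u}} {X : Scheme.{u}} (f : X ⟶ Spec A) [IsProper f]
    [LocallyOfFinitePresentation f] {L : X.Modules} (hL : PicF.IsInvertible L) :
    ∃ (S₀ X₀ : Scheme.{u}) (ρ : Spec A ⟶ S₀) (f₀ : X₀ ⟶ S₀) (q : X ⟶ X₀) (L₀ : X₀.Modules),
      IsNoetherian S₀ ∧ IsAffine S₀ ∧ IsProper f₀ ∧ IsPullback q f f₀ ρ ∧ PicF.IsInvertible L₀ ∧
      Nonempty ((Scheme.Modules.pullback q).obj L₀ ≅ L) := by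
  obtain ⟨i, Xi, fi, g, hm⟩ := hasModel (NoethApprox.isLimit A) (c := NoethApprox.cone A) f
  haveI := hm.qc; haveI := hm.qs
  haveI : CompactSpace Xi := hm.compactSpace
  haveI : QuasiSeparatedSpace Xi := hm.quasiSeparatedSpace
  obtain ⟨l, φ, hl⟩ := core_isProper _ (diagram A) (NoethApprox.cone A) (NoethApprox.isLimit A)
    (fun _ _ _ => inferInstance) i inferInstance fi inferInstance inferInstance hm.lfp
    (MorLib.Desc.of_two @IsProper hm.sq (IsPullback.of_hasPullback _ _) inferInstance)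
  haveI := hl
  have hl' := hm.pushed φ
  let fl := pullback.snd fi ((diagram A).map φ)
  haveI : CompactSpace ↥(pullback fi ((diagram A).map φ)) := hl'.compactSpace
  haveI : QuasiSeparatedSpace ↥(pullback fi ((diagram A).map φ)) := hl'.quasiSeparatedSpace
  let D' := MorLib.BC.diag (diagram A) fl
  have hc' := MorLib.BC.isLimitCone (diagram A) fl (c := NoethApprox.cone A) hl'.sq (NoethApprox.isLimit A)
  haveI : ∀ {a b : Over l} (r : a ⟶ b), IsAffineHom (D'.map r) := fun r => MorLib.BC.isAffineHom_map _ fl r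
  haveI : ∀ a, CompactSpace (D'.obj a) := fun a => MorLib.BC.compactSpace_obj (diagram A) fl a
  haveI : ∀ a, QuasiSeparatedSpace (D'.obj a) := fun a => MorLib.BC.quasiSeparatedSpace_obj (diagram A) fl a
  obtain ⟨j, M, hM, e⟩ := exists_invertible_stage D' hc' (L := L) hL
  exact ⟨(diagram A).obj j.left, D'.obj j, (NoethApprox.cone A).π.app j.left,
    pullback.snd fl ((diagram A).map j.hom), MorLib.BC.proj (diagram A) fl hl'.sq j, M, inferInstance,
    inferInstance, MorphismProperty.pullback_snd _ _ inferInstance,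
    MorLib.BC.isPullback_proj (diagram A) fl hl'.sq j, hM, e⟩

/-- The points with ample fibre inside an affine open form a compact open, over which the sheaf is ample. -/
theorem exists_ampleLocus {X Y : Scheme.{u}} (f : X ⟶ Y) [IsProper f] [LocallyOfFinitePresentation f]
    {L : X.Modules} (hL : PicF.IsInvertible L) {V : Y.Opens} (hV : IsAffineOpen V) :
    ∃ U : Y.Opens, U ≤ V ∧ IsCompact (U : Set Y) ∧
      (∀ y ∈ V, (y ∈ U ↔ CohB1.IsAmple ((Scheme.Modules.pullback (f.fiberι y)).obj L))) ∧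
      ∀ y ∈ U, AmpleX.AmpleOn f L y := by
  let j := hV.fromSpec
  let fst := pullback.fst f j
  let fV := pullback.snd f j
  obtain ⟨S₀, X₀, ρ, f₀, q, L₀, hN, hA, hp, sq, hL₀, ⟨e⟩⟩ :=
    exists_model fV (L := (Scheme.Modules.pullback fst).obj L) (PicClLib.isInvertible_pullback _ hL)
  haveI := hN; haveI := hA; haveI := hp
  let U₀ : S₀.Opens := ⟨{s | CohB1.IsAmple ((Scheme.Modules.pullback (f₀.fiberι s)).obj L₀)}, by
    refine isOpen_iff_forall_mem_open.2 fun s hs => ?_
    obtain ⟨V₀, hsV₀, hV₀⟩ := AmpleVan.Near.exists_nhds_isAmple f₀ hL₀ s hs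
    refine ⟨V₀, fun s' hs' => ?_, V₀.2, hsV₀⟩
    obtain ⟨W, hW, hsW, hWV⟩ := exists_isAffineOpen_mem_and_subset (x := s') (U := V₀) hs'
    have hamp := hV₀ W hWV hW
    haveI : IsAffine (W : Scheme.{u}) := hW
    have sqW : IsPullback (f₀ ⁻¹ᵁ W).ι (f₀ ∣_ W) f₀ W.ι := (isPullback_morphismRestrict f₀ W).flip
    refine (isAmple_fibre_iff sqW hL₀ ⟨s', hsW⟩).1 ?_
    haveI : IsAffineHom ((f₀ ∣_ W).fiberι ⟨s', hsW⟩) :=
      MorphismProperty.pullback_fst _ _ (isAffineHom_of_isAffine _)
    haveI : CompactSpace ↥((f₀ ∣_ W).fiber ⟨s', hsW⟩) :=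
      QuasiCompact.compactSpace_of_compactSpace ((f₀ ∣_ W).fiberToSpecResidueField ⟨s', hsW⟩)
    exact AmpleVan.FiniteSurj.isAmple_pullback_of_isAffineHom _
      (AmpleX.isAmple_of_iso ((Scheme.Modules.restrictFunctorIsoPullback _).app L₀) hamp)⟩
  have hiff : ∀ t, ρ t ∈ U₀ ↔ CohB1.IsAmple ((Scheme.Modules.pullback (f.fiberι (j t))).obj L) := fun t => by
    rw [← isAmple_fibre_iff (IsPullback.of_hasPullback f j) hL t]
    exact (isAmple_fibre_iff sq hL₀ t).symm.trans
      ⟨AmpleX.isAmple_of_iso ((Scheme.Modules.pullback _).mapIso e),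
        AmpleX.isAmple_of_iso ((Scheme.Modules.pullback _).mapIso e).symm⟩
  haveI : IsAffineHom ρ := isAffineHom_of_isAffine _
  refine ⟨j ''ᵁ (ρ ⁻¹ᵁ U₀), ?_, ?_, ?_, ?_⟩
  · rintro y ⟨t, -, rfl⟩
    exact hV.range_fromSpec.le ⟨t, rfl⟩
  · exact (ρ.isCompact_preimage (TopologicalSpace.NoetherianSpace.isCompact _)).image j.continuous
  · intro y hy
    obtain ⟨t, rfl⟩ := hV.range_fromSpec.ge hy
    rw [← hiff t]
    exact ⟨fun ⟨t', ht', h⟩ => j.isOpenEmbedding.injective h ▸ ht', fun h => ⟨t, h, rfl⟩⟩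
  · rintro y ⟨t, ht, rfl⟩
    obtain ⟨V₀, htV₀, hV₀⟩ := AmpleVan.Near.exists_nhds_isAmple f₀ hL₀ (ρ t) ht
    obtain ⟨W₀, hW₀, htW, hWV⟩ := exists_isAffineOpen_mem_and_subset (x := ρ t) (U := V₀) htV₀
    let W' : (pullback f j).Opens := q ⁻¹ᵁ (f₀ ⁻¹ᵁ W₀)
    haveI : IsAffineHom q := MorphismProperty.of_isPullback sq.flip inferInstance
    haveI : IsAffineHom (q ∣_ (f₀ ⁻¹ᵁ W₀)) := IsZariskiLocalAtTarget.restrict (P := @IsAffineHom) inferInstance _
    haveI : CompactSpace ↥((f₀ ⁻¹ᵁ W₀) : Scheme.{u}) :=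
      isCompact_iff_compactSpace.1 (f₀.isCompact_preimage hW₀.isCompact)
    haveI : CompactSpace (W' : Scheme.{u}) := QuasiCompact.compactSpace_of_compactSpace (q ∣_ (f₀ ⁻¹ᵁ W₀))
    haveI : IsOpenImmersion fst := MorphismProperty.pullback_fst _ _ inferInstance
    refine ⟨j ''ᵁ (ρ ⁻¹ᵁ W₀), W', W'.ι ≫ fst, inferInstance, ⟨t, htW, rfl⟩, ?_, ?_⟩
    · rintro x ⟨t', ht', hx⟩
      obtain ⟨z, hz, hzt⟩ := Scheme.Pullback.exists_preimage_pullback (f := f) (g := j) x t' hx.symm
      refine ⟨⟨z, ?_⟩, hz⟩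
      show f₀ (q z) ∈ W₀
      rw [← Scheme.Hom.comp_apply, sq.w, Scheme.Hom.comp_apply, hzt]
      exact ht'
    · have h1 := AmpleVan.FiniteSurj.isAmple_pullback_of_isAffineHom (q ∣_ (f₀ ⁻¹ᵁ W₀))
        (AmpleX.isAmple_of_iso ((Scheme.Modules.restrictFunctorIsoPullback _).app L₀) (hV₀ W₀ hWV hW₀))
      exact AmpleX.isAmple_of_iso ((Scheme.Modules.pullbackComp _ _).app L₀ ≪≫
        (Scheme.Modules.pullbackCongr (morphismRestrict_ι q (f₀ ⁻¹ᵁ W₀))).app L₀ ≪≫
        ((Scheme.Modules.pullbackComp W'.ι q).app L₀).symm ≪≫ (Scheme.Modules.pullback W'.ι).mapIso e ≪≫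
        (Scheme.Modules.pullbackComp W'.ι fst).app L ≪≫
        ((Scheme.Modules.restrictFunctorIsoPullback _).app L).symm) h1

/-- Relative ampleness can be tested on the fibres. -/
theorem isRelAmple_iff_forall_fibre {X Y : Scheme.{u}} (f : X ⟶ Y) [IsProper f] [LocallyOfFinitePresentation f]
    {L : X.Modules} (hL : PicF.IsInvertible L) :
    RelAmple.IsRelAmple f L ↔ ∀ y : Y, CohB1.IsAmple ((Scheme.Modules.pullback (f.fiberι y)).obj L) := by
  constructor
  · intro h y
    exact (AmpleX.isRelAmple_iff_isAmple (f.fiberToSpecResidueField y) _).1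
      (AmpleX.isRelAmple_baseChange f (Y.fromSpecResidueField y) h)
  · intro h
    refine AmpleX.isRelAmple_of_ampleOn fun x => ?_
    obtain ⟨V, hV, hxV, -⟩ := exists_isAffineOpen_mem_and_subset (x := f x) (U := ⊤) trivial
    obtain ⟨U, -, -, hiff, hU⟩ := exists_ampleLocus f hL hV
    exact hU _ ((hiff _ hxV).2 (h _))

/-- The points with ample fibre form a locally constructible set. -/
theorem isLocallyConstructible_ampleLocus {X Y : Scheme.{u}} (f : X ⟶ Y) [IsProper f]
    [LocallyOfFinitePresentation f] {L : X.Modules} (hL : PicF.IsInvertible L) :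
    IsLocallyConstructible {y : Y | CohB1.IsAmple ((Scheme.Modules.pullback (f.fiberι y)).obj L)}ᶜ := by
  intro y
  obtain ⟨V, hV, hyV, -⟩ := exists_isAffineOpen_mem_and_subset (x := y) (U := ⊤) trivial
  obtain ⟨U, hUV, hUc, hiff, -⟩ := exists_ampleLocus f hL hV
  refine ⟨V, V.2.mem_nhds hyV, V.2, ?_⟩
  rw [Set.preimage_compl]
  refine IsConstructible.compl ?_
  haveI : IsAffine (V : Scheme.{u}) := hV
  have h : ((V : Set Y) ↓∩ {y : Y | CohB1.IsAmple ((Scheme.Modules.pullback (f.fiberι y)).obj L)}) =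
      (V.ι ⁻¹ᵁ U : Set (V : Scheme.{u})) := by
    ext ⟨z, hz⟩
    exact (hiff z hz).symm
  rw [h]
  refine IsRetrocompact.isConstructible (V.ι ⁻¹ᵁ U).2 ?_
  exact (V.ι.isOpenEmbedding.isInducing.isCompact_preimage' hUc (by
    rw [← Scheme.Hom.coe_opensRange, Scheme.Opens.opensRange_ι]; exact hUV)).isRetrocompact (V.ι ⁻¹ᵁ U).2


end Groth.Agent.AmpleDesc5
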