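import Groth.Agent.AmpleDesc5.Stage
import Groth.Agent.S4790
import Groth.Agent.AmpleVan.Components
import Groth.Agent.AmpleX.Rel
import Groth.Agent.AmpleX.BaseChange
import Groth.Agent.AmpleX.Comp
import Groth.Agent.MorLib.BaseChangeLim
import Groth.Agent.ConsPropLib.Model

/-!
# Relative ampleness comes from a stage of a limit
-/

set_option autoImplicit false
set_option maxHeartbeats 1000000
set_option linter.style.haveILetI false
set_option backward.isDefEq.respectTransparency.types false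
set_option backward.isDefEq.respectTransparency false

universe u

open CategoryTheory CategoryTheory.Limits AlgebraicGeometry TopologicalSpace

namespace Groth.Agent.AmpleDesc5

/-- Relative ampleness along an isomorphism of the source. -/
theorem isRelAmple_of_iso_source {X X' Y : Scheme.{u}} (e : X' ≅ X) (f : X ⟶ Y) {L : X.Modules}
    (h : RelAmple.IsRelAmple f L) : RelAmple.IsRelAmple (e.hom ≫ f) ((Scheme.Modules.pullback e.hom).obj L) := by
  refine AmpleX.isRelAmple_pullback_quasiAffine f e.hom ⟨inferInstance, fun V hV => ?_⟩ h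
  haveI : IsAffine (e.hom ⁻¹ᵁ V : Scheme) := hV.preimage e.hom
  infer_instance

theorem isRelAmple_of_moduleIso {X Y : Scheme.{u}} {f : X ⟶ Y} {L L' : X.Modules} (e : L ≅ L')
    (h : RelAmple.IsRelAmple f L) : RelAmple.IsRelAmple f L' :=
  ⟨h.1, fun W => AmpleX.isAmple_of_iso ((Scheme.Modules.restrictFunctor (f ⁻¹ᵁ W.1).ι).mapIso e) (h.2 W)⟩

/-- Relative ampleness of a base change does not depend on the choice of the fibre product. -/
theorem isRelAmple_congr {X Y Y' P P' : Scheme.{u}} {f : X ⟶ Y} {g : Y' ⟶ Y} {a : P ⟶ X} {b : P ⟶ Y'}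
    {a' : P' ⟶ X} {b' : P' ⟶ Y'} (sq : IsPullback a b f g) (sq' : IsPullback a' b' f g) {M : X.Modules}
    (h : RelAmple.IsRelAmple b ((Scheme.Modules.pullback a).obj M)) :
    RelAmple.IsRelAmple b' ((Scheme.Modules.pullback a').obj M) := by
  have h1 := isRelAmple_of_iso_source (IsPullback.isoIsPullback _ _ sq' sq) b h
  rw [IsPullback.isoIsPullback_hom_snd] at h1
  exact isRelAmple_of_moduleIso ((Scheme.Modules.pullbackComp _ a).app M ≪≫
    (Scheme.Modules.pullbackCongr (IsPullback.isoIsPullback_hom_fst _ _ sq' sq)).app M) h1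

/-- Relative ampleness along an isomorphism of the target. -/
theorem isRelAmple_comp_iso {X Y Y' : Scheme.{u}} {f : X ⟶ Y} (e : Y ≅ Y') {L : X.Modules}
    (h : RelAmple.IsRelAmple f L) : RelAmple.IsRelAmple (f ≫ e.hom) L := by
  have sq : IsPullback (𝟙 X) (f ≫ e.hom) f e.inv := IsPullback.of_horiz_isIso ⟨by simp⟩
  exact isRelAmple_of_moduleIso ((Scheme.Modules.pullbackId X).app L)
    (isRelAmple_congr (IsPullback.of_hasPullback f e.inv) sq (AmpleX.isRelAmple_baseChange f e.inv h))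

theorem isRelAmple_of_comp_iso {X Y Y' : Scheme.{u}} {f : X ⟶ Y} (e : Y ≅ Y') {L : X.Modules}
    (h : RelAmple.IsRelAmple (f ≫ e.hom) L) : RelAmple.IsRelAmple f L := by
  have h1 := isRelAmple_comp_iso e.symm h
  rwa [Category.assoc, Iso.symm_hom, Iso.hom_inv_id, Category.comp_id] at h1

variable {I : Type u} [SmallCategory I] [IsCofiltered I] (E : I ⥤ Scheme.{u}) {c : Cone E} (hc : IsLimit c)
  [∀ {i j : I} (f : i ⟶ j), IsAffineHom (E.map f)]
  [∀ i, CompactSpace (E.obj i)] [∀ i, QuasiSeparatedSpace (E.obj i)]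

include hc in
/-- A sheaf at a stage which becomes ample on the limit is ample at a later stage. -/
theorem exists_isAmple_pullback_stage {i : I} {M : (E.obj i).Modules} (hM : PicF.IsInvertible M)
    (h : CohB1.IsAmple ((Scheme.Modules.pullback (c.π.app i)).obj M)) :
    ∃ (j : I) (φ : j ⟶ i), CohB1.IsAmple ((Scheme.Modules.pullback (E.map φ)).obj M) := by
  haveI : ∀ (i j : I) (f : i ⟶ j), IsAffineHom (E.map f) := fun i j f => inferInstance
  obtain ⟨l, N, hN, ⟨e⟩⟩ := exists_ample_stage E hc h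
  obtain ⟨k, a, b, -⟩ := IsCofilteredOrEmpty.cone_objs i l
  have hMk := PicClLib.isInvertible_pullback (E.map a) hM
  have hNk := AmpleVan.FiniteSurj.isAmple_pullback_of_isAffineHom (E.map b) hN
  haveI := isQCoh_of_isInvertible hMk
  haveI := isQCoh_of_isInvertible hNk.1
  obtain ⟨m, χ, ⟨e'⟩⟩ := (S4790.result E c hc k ((Scheme.Modules.pullback (E.map a)).obj M)
    ((Scheme.Modules.pullback (E.map b)).obj N) (isFP_of_isInvertible hMk) (isFP_of_isInvertible hNk.1)).1
    ⟨(Scheme.Modules.pullbackComp _ _).app M ≪≫ (Scheme.Modules.pullbackCongr (c.w a)).app M ≪≫ e.symm ≪≫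
      ((Scheme.Modules.pullbackCongr (c.w b)).app N).symm ≪≫ ((Scheme.Modules.pullbackComp _ _).app N).symm⟩
  exact ⟨m, χ ≫ a, AmpleX.isAmple_of_iso (e'.symm ≪≫ (Scheme.Modules.pullbackComp _ _).app M ≪≫
    (Scheme.Modules.pullbackCongr (E.map_comp χ a).symm).app M)
    (AmpleVan.FiniteSurj.isAmple_pullback_of_isAffineHom (E.map χ) hNk)⟩

include hc in
/-- A sheaf at a stage which becomes relatively ample on the limit is so at a later stage. -/
theorem exists_isRelAmple_stage {i : I} {X : Scheme.{u}} (f : X ⟶ E.obj i) [QuasiCompact f] [QuasiSeparated f]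
    {M : X.Modules} (hM : PicF.IsInvertible M)
    (h : RelAmple.IsRelAmple (pullback.snd f (c.π.app i))
      ((Scheme.Modules.pullback (pullback.fst f (c.π.app i))).obj M)) :
    ∃ (j : I) (φ : j ⟶ i), RelAmple.IsRelAmple (pullback.snd f (E.map φ))
      ((Scheme.Modules.pullback (pullback.fst f (E.map φ))).obj M) := by
  classical
  haveI : QuasiSeparatedSpace X := quasiSeparatedSpace_of_quasiSeparated f
  choose W hW hmem _ using fun y : E.obj i => exists_isAffineOpen_mem_and_subset (x := y) (U := ⊤) trivial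
  obtain ⟨T, hT⟩ := isCompact_univ.elim_finite_subcover (fun y => (W y : Set (E.obj i))) (fun y => (W y).2)
    (fun y _ => Set.mem_iUnion.2 ⟨y, hmem y⟩)
  let κ : ∀ (y : E.obj i) {Z : Scheme.{u}} (τ : Z ⟶ E.obj i),
      pullback ((f ⁻¹ᵁ W y).ι ≫ f) τ ⟶ pullback f τ := fun y Z τ =>
    pullback.map _ _ _ _ (f ⁻¹ᵁ W y).ι (𝟙 _) (𝟙 _) (by simp) (by simp)
  have hκ : ∀ (y : E.obj i) {Z : Scheme.{u}} (τ : Z ⟶ E.obj i),
      IsOpenImmersion (κ y τ) ∧ pullback.snd f τ ⁻¹ᵁ (τ ⁻¹ᵁ W y) = (κ y τ).opensRange ∧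
        κ y τ ≫ pullback.fst f τ = pullback.fst _ τ ≫ (f ⁻¹ᵁ W y).ι := fun y Z τ => by
    have sq := ConsPropLib.isPullback_mapBC (f ⁻¹ᵁ W y).ι (a := (f ⁻¹ᵁ W y).ι ≫ f) (b := f) rfl τ
    haveI : IsOpenImmersion (κ y τ) := MorphismProperty.of_isPullback sq inferInstance
    refine ⟨inferInstance, Opens.ext (Set.ext fun z => ?_), sq.w.symm⟩
    constructor
    · intro hz
      have hz' : f (pullback.fst f τ z) ∈ W y := by
        rw [← Scheme.Hom.comp_apply, pullback.condition, Scheme.Hom.comp_apply]; exact hz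
      obtain ⟨w, -, hw⟩ := Scheme.Pullback.exists_preimage_pullback (f := (f ⁻¹ᵁ W y).ι) (g := pullback.fst f τ)
        ⟨_, hz'⟩ z rfl
      exact ⟨sq.isoPullback.inv w, by rw [← hw, ← Scheme.Hom.comp_apply, sq.isoPullback_inv_snd]⟩
    · rintro ⟨w, rfl⟩
      show τ (pullback.snd f τ (κ y τ w)) ∈ W y
      rw [← Scheme.Hom.comp_apply (pullback.snd f τ), ← pullback.condition, Scheme.Hom.comp_apply,
        ← Scheme.Hom.comp_apply (κ y τ), sq.w.symm, Scheme.Hom.comp_apply]
      exact (pullback.fst ((f ⁻¹ᵁ W y).ι ≫ f) τ w).2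
  have hstage : ∀ y : E.obj i, ∃ a : Over i,
      CohB1.IsAmple ((Scheme.Modules.pullback (pullback.fst ((f ⁻¹ᵁ W y).ι ≫ f) (E.map a.hom) ≫ (f ⁻¹ᵁ W y).ι)).obj M) := by
    intro y
    let xa := (f ⁻¹ᵁ W y).ι ≫ f
    haveI : CompactSpace ↥((f ⁻¹ᵁ W y) : Scheme.{u}) :=
      isCompact_iff_compactSpace.1 (f.isCompact_preimage (hW y).isCompact)
    haveI : QuasiSeparatedSpace ↥((f ⁻¹ᵁ W y) : Scheme.{u}) :=
      quasiSeparatedSpace_of_quasiSeparated (f ⁻¹ᵁ W y).ι
    let D := MorLib.BC.diag E xa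
    have hc' := MorLib.BC.isLimitCone E xa (IsPullback.of_hasPullback xa (c.π.app i)) hc
    haveI : ∀ {a b : Over i} (r : a ⟶ b), IsAffineHom (D.map r) := fun r => MorLib.BC.isAffineHom_map E xa r
    haveI : ∀ a, CompactSpace (D.obj a) := fun a => MorLib.BC.compactSpace_obj E xa a
    haveI : ∀ a, QuasiSeparatedSpace (D.obj a) := fun a => MorLib.BC.quasiSeparatedSpace_obj E xa a
    haveI := isAffineHom_π_app E c hc i
    obtain ⟨ho, hr, hw⟩ := hκ y (c.π.app i)
    haveI := ho
    have h1 := AmpleX.isAmple_of_iso ((Scheme.Modules.restrictFunctorIsoPullback _).app _)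
      (AmpleX.isAmple_restrict_congr _ (κ y (c.π.app i)) (PicClLib.isInvertible_pullback _ hM)
        ((Scheme.Opens.opensRange_ι _).trans hr) (h.2 ⟨_, (hW y).preimage (c.π.app i)⟩))
    let U : Over i := Over.mk (𝟙 i)
    obtain ⟨a, φ, ha⟩ := exists_isAmple_pullback_stage D hc' (i := U)
      (M := (Scheme.Modules.pullback (pullback.fst xa (E.map U.hom) ≫ (f ⁻¹ᵁ W y).ι)).obj M)
      (PicClLib.isInvertible_pullback _ hM)
      (AmpleX.isAmple_of_iso ((Scheme.Modules.pullbackComp _ _).app M ≪≫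
        (Scheme.Modules.pullbackCongr (hw.trans (by
          show _ = MorLib.BC.proj E xa (IsPullback.of_hasPullback xa (c.π.app i)) U ≫ _
          rw [MorLib.BC.proj_fst_assoc]))).app M ≪≫ ((Scheme.Modules.pullbackComp _ _).app M).symm) h1)
    exact ⟨a, AmpleX.isAmple_of_iso ((Scheme.Modules.pullbackComp _ _).app M ≪≫
      (Scheme.Modules.pullbackCongr (show D.map φ ≫ pullback.fst xa (E.map U.hom) ≫ (f ⁻¹ᵁ W y).ι = _ by
        rw [← Category.assoc, MorLib.BC.map_fst])).app M) ha⟩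
  choose a ha using hstage
  obtain ⟨m, hm⟩ := IsCofiltered.inf_objs_exists (insert (Over.mk (𝟙 i)) (T.image a))
  refine ⟨m.left, m.hom, ?_⟩
  haveI : QuasiCompact (pullback.snd f (E.map m.hom)) := MorphismProperty.pullback_snd _ _ inferInstance
  refine AmpleX.isRelAmple_of_ampleOn fun x => ?_
  obtain ⟨y, hyT, hy⟩ := Set.mem_iUnion₂.1 (hT (Set.mem_univ (E.map m.hom (pullback.snd f (E.map m.hom) x))))
  obtain ⟨ho, hr, hw⟩ := hκ y (E.map m.hom)
  refine ⟨E.map m.hom ⁻¹ᵁ W y, _, κ y (E.map m.hom), ho, hy, hr.le, ?_⟩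
  let r : m ⟶ a y := (hm (Finset.mem_insert_of_mem (Finset.mem_image_of_mem a hyT))).some
  haveI : CompactSpace ↥((f ⁻¹ᵁ W y) : Scheme.{u}) :=
    isCompact_iff_compactSpace.1 (f.isCompact_preimage (hW y).isCompact)
  haveI : CompactSpace ↥(pullback ((f ⁻¹ᵁ W y).ι ≫ f) (E.map m.hom)) := MorLib.BC.compactSpace_obj E _ m
  haveI : IsAffineHom ((MorLib.BC.diag E ((f ⁻¹ᵁ W y).ι ≫ f)).map r) := MorLib.BC.isAffineHom_map E _ r
  haveI := ho
  exact AmpleX.isAmple_of_iso ((Scheme.Modules.pullbackComp _ _).app M ≪≫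
    (Scheme.Modules.pullbackCongr (by rw [← Category.assoc, MorLib.BC.map_fst, hw])).app M ≪≫
    ((Scheme.Modules.pullbackComp _ _).app M).symm ≪≫
    ((Scheme.Modules.restrictFunctorIsoPullback _).app _).symm)
    (AmpleVan.FiniteSurj.isAmple_pullback_of_isAffineHom ((MorLib.BC.diag E ((f ⁻¹ᵁ W y).ι ≫ f)).map r) (ha y))

include hc in
/-- Existence of a relatively ample sheaf on the limit gives one at a stage. -/
theorem exists_relAmple_stage {i : I} {X : Scheme.{u}} (f : X ⟶ E.obj i) [QuasiCompact f] [QuasiSeparated f]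
    (h : ∃ L : (pullback f (c.π.app i)).Modules, RelAmple.IsRelAmple (pullback.snd f (c.π.app i)) L) :
    ∃ (j : I) (φ : j ⟶ i) (M : (pullback f (E.map φ)).Modules), RelAmple.IsRelAmple (pullback.snd f (E.map φ)) M := by
  obtain ⟨L, hL⟩ := h
  haveI : CompactSpace X := QuasiCompact.compactSpace_of_compactSpace f
  haveI : QuasiSeparatedSpace X := quasiSeparatedSpace_of_quasiSeparated f
  let D := MorLib.BC.diag E f
  have hX := IsPullback.of_hasPullback f (c.π.app i)
  have hc' := MorLib.BC.isLimitCone E f hX hc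
  haveI : ∀ {a b : Over i} (r : a ⟶ b), IsAffineHom (D.map r) := fun r => MorLib.BC.isAffineHom_map E f r
  haveI : ∀ a, CompactSpace (D.obj a) := fun a => MorLib.BC.compactSpace_obj E f a
  haveI : ∀ a, QuasiSeparatedSpace (D.obj a) := fun a => MorLib.BC.quasiSeparatedSpace_obj E f a
  obtain ⟨a, M, hM, ⟨e⟩⟩ := exists_invertible_stage D hc' (L := L) (AmpleX.isInvertible_of_isRelAmple hL)
  let fa : D.obj a ⟶ E.obj a.left := pullback.snd f (E.map a.hom)
  haveI : QuasiCompact fa := MorphismProperty.pullback_snd _ _ inferInstance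
  haveI : QuasiSeparated fa := MorphismProperty.pullback_snd _ _ inferInstance
  obtain ⟨j, φ, hj⟩ := exists_isRelAmple_stage E hc fa hM
    (isRelAmple_congr (MorLib.BC.isPullback_proj E f hX a) (IsPullback.of_hasPullback _ _)
      (isRelAmple_of_moduleIso e.symm hL))
  let e' : pullback fa (E.map φ) ≅ pullback f (E.map (φ ≫ a.hom)) :=
    ((IsPullback.of_hasPullback fa (E.map φ)).paste_horiz (IsPullback.of_hasPullback f (E.map a.hom))).isoPullback ≪≫
      pullback.congrHom rfl (E.map_comp φ a.hom).symm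
  have h1 := isRelAmple_of_iso_source e'.symm (pullback.snd fa (E.map φ)) hj
  rw [show e'.symm.hom ≫ pullback.snd fa (E.map φ) = pullback.snd f (E.map (φ ≫ a.hom)) by
    simp [e']] at h1
  exact ⟨j, φ ≫ a.hom, _, h1⟩

end Groth.Agent.AmpleDesc5
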