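import Groth.Agent.AmpleDesc5.RelStage
import Groth.Agent.S4790
import Groth.Agent.AmpleVan.Components
import Groth.Agent.AmpleX.Rel
import Groth.Agent.AmpleX.BaseChange
import Groth.Agent.AmpleX.Comp
import Groth.Agent.MorLib.BaseChangeLim
import Groth.Agent.ConsPropLib.Model

/-!
# Relative ampleness comes from a stage of a limit, without separation of the stages
-/

set_option autoImplicit false
set_option maxHeartbeats 1000000
set_option linter.style.haveILetI false
set_option backward.isDefEq.respectTransparency.types false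
set_option backward.isDefEq.respectTransparency false

universe u

open CategoryTheory CategoryTheory.Limits AlgebraicGeometry TopologicalSpace

namespace Groth.Agent.AmpleDesc5

variable {I : Type u} [SmallCategory I] [IsCofiltered I] (E : I ⥤ Scheme.{u}) {c : Cone E} (hc : IsLimit c)
  [∀ {i j : I} (f : i ⟶ j), IsAffineHom (E.map f)]
  [∀ i, CompactSpace (E.obj i)]

include hc in
/-- A sheaf at a stage which becomes relatively ample on the limit is so at a later stage. -/
theorem exists_isRelAmple_stage_qc {i : I} {X : Scheme.{u}} (f : X ⟶ E.obj i) [QuasiCompact f] [QuasiSeparated f]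
    {M : X.Modules} (hM : PicF.IsInvertible M)
    (h : RelAmple.IsRelAmple (pullback.snd f (c.π.app i))
      ((Scheme.Modules.pullback (pullback.fst f (c.π.app i))).obj M)) :
    ∃ (j : I) (φ : j ⟶ i), RelAmple.IsRelAmple (pullback.snd f (E.map φ))
      ((Scheme.Modules.pullback (pullback.fst f (E.map φ))).obj M) := by
  classical
  choose W hW hmem _ using fun y : E.obj i => exists_isAffineOpen_mem_and_subset (x := y) (U := ⊤) trivial
  obtain ⟨T, hT⟩ := isCompact_univ.elim_finite_subcover (fun y => (W y : Set (E.obj i))) (fun y => (W y).2)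
    (fun y _ => Set.mem_iUnion.2 ⟨y, hmem y⟩)
  let κ : ∀ (y : E.obj i) {Z : Scheme.{u}} (τ : Z ⟶ E.obj i),
      pullback ((f ⁻¹ᵁ W y).ι ≫ f) τ ⟶ pullback f τ := fun y Z τ =>
    pullback.map _ _ _ _ (f ⁻¹ᵁ W y).ι (𝟙 _) (𝟙 _) (by simp) (by simp)
  have hκ : ∀ (y : E.obj i) {Z : Scheme.{u}} (τ : Z ⟶ E.obj i),
      IsOpenImmersion (κ y τ) ∧ pullback.snd f τ ⁻¹ᵁ (τ ⁻¹ᵁ W y) = (κ y τ).opensRange ∧
        κ y τ ≫ pullback.fst f τ = pullback.fst _ τ ≫ (f ⁻¹ᵁ W y).ι := fun y Z τ => by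
    have sq := ConsPropLib.isPullback_mapBC (f ⁻¹ᵁ W y).ι (a := (f ⁻¹ᵁ W y).ι ≫ f) (b := f) rfl τ
    haveI : IsOpenImmersion (κ y τ) := MorphismProperty.of_isPullback sq inferInstance
    refine ⟨inferInstance, Opens.ext (Set.ext fun z => ?_), sq.w.symm⟩
    constructor
    · intro hz
      have hz' : f (pullback.fst f τ z) ∈ W y := by
        rw [← Scheme.Hom.comp_apply, pullback.condition, Scheme.Hom.comp_apply]; exact hz
      obtain ⟨w, -, hw⟩ := Scheme.Pullback.exists_preimage_pullback (f := (f ⁻¹ᵁ W y).ι) (g := pullback.fst f τ)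
        ⟨_, hz'⟩ z rfl
      exact ⟨sq.isoPullback.inv w, by rw [← hw, ← Scheme.Hom.comp_apply, sq.isoPullback_inv_snd]⟩
    · rintro ⟨w, rfl⟩
      show τ (pullback.snd f τ (κ y τ w)) ∈ W y
      rw [← Scheme.Hom.comp_apply (pullback.snd f τ), ← pullback.condition, Scheme.Hom.comp_apply,
        ← Scheme.Hom.comp_apply (κ y τ), sq.w.symm, Scheme.Hom.comp_apply]
      exact (pullback.fst ((f ⁻¹ᵁ W y).ι ≫ f) τ w).2
  have hstage : ∀ y : E.obj i, ∃ a : Over i,
      CohB1.IsAmple ((Scheme.Modules.pullback (pullback.fst ((f ⁻¹ᵁ W y).ι ≫ f) (E.map a.hom) ≫ (f ⁻¹ᵁ W y).ι)).obj M) := by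
    intro y
    let xa := (f ⁻¹ᵁ W y).ι ≫ f
    haveI : CompactSpace ↥((f ⁻¹ᵁ W y) : Scheme.{u}) :=
      isCompact_iff_compactSpace.1 (f.isCompact_preimage (hW y).isCompact)
    haveI : IsAffine (W y : Scheme.{u}) := hW y
    haveI : QuasiSeparated (f ∣_ W y) := IsZariskiLocalAtTarget.restrict ‹QuasiSeparated f› (W y)
    haveI : QuasiSeparatedSpace ↥((f ⁻¹ᵁ W y) : Scheme.{u}) :=
      quasiSeparatedSpace_of_quasiSeparated (f ∣_ W y)
    let D := MorLib.BC.diag E xa
    have hc' := MorLib.BC.isLimitCone E xa (IsPullback.of_hasPullback xa (c.π.app i)) hc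
    haveI : ∀ {a b : Over i} (r : a ⟶ b), IsAffineHom (D.map r) := fun r => MorLib.BC.isAffineHom_map E xa r
    haveI : ∀ a, CompactSpace (D.obj a) := fun a => MorLib.BC.compactSpace_obj E xa a
    haveI : ∀ a, QuasiSeparatedSpace (D.obj a) := fun a => MorLib.BC.quasiSeparatedSpace_obj E xa a
    haveI := isAffineHom_π_app E c hc i
    obtain ⟨ho, hr, hw⟩ := hκ y (c.π.app i)
    haveI := ho
    have h1 := AmpleX.isAmple_of_iso ((Scheme.Modules.restrictFunctorIsoPullback _).app _)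
      (AmpleX.isAmple_restrict_congr _ (κ y (c.π.app i)) (PicClLib.isInvertible_pullback _ hM)
        ((Scheme.Opens.opensRange_ι _).trans hr) (h.2 ⟨_, (hW y).preimage (c.π.app i)⟩))
    let U : Over i := Over.mk (𝟙 i)
    obtain ⟨a, φ, ha⟩ := exists_isAmple_pullback_stage D hc' (i := U)
      (M := (Scheme.Modules.pullback (pullback.fst xa (E.map U.hom) ≫ (f ⁻¹ᵁ W y).ι)).obj M)
      (PicClLib.isInvertible_pullback _ hM)
      (AmpleX.isAmple_of_iso ((Scheme.Modules.pullbackComp _ _).app M ≪≫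
        (Scheme.Modules.pullbackCongr (hw.trans (by
          show _ = MorLib.BC.proj E xa (IsPullback.of_hasPullback xa (c.π.app i)) U ≫ _
          rw [MorLib.BC.proj_fst_assoc]))).app M ≪≫ ((Scheme.Modules.pullbackComp _ _).app M).symm) h1)
    exact ⟨a, AmpleX.isAmple_of_iso ((Scheme.Modules.pullbackComp _ _).app M ≪≫
      (Scheme.Modules.pullbackCongr (show D.map φ ≫ pullback.fst xa (E.map U.hom) ≫ (f ⁻¹ᵁ W y).ι = _ by
        rw [← Category.assoc, MorLib.BC.map_fst])).app M) ha⟩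
  choose a ha using hstage
  obtain ⟨m, hm⟩ := IsCofiltered.inf_objs_exists (insert (Over.mk (𝟙 i)) (T.image a))
  refine ⟨m.left, m.hom, ?_⟩
  haveI : QuasiCompact (pullback.snd f (E.map m.hom)) := MorphismProperty.pullback_snd _ _ inferInstance
  refine AmpleX.isRelAmple_of_ampleOn fun x => ?_
  obtain ⟨y, hyT, hy⟩ := Set.mem_iUnion₂.1 (hT (Set.mem_univ (E.map m.hom (pullback.snd f (E.map m.hom) x))))
  obtain ⟨ho, hr, hw⟩ := hκ y (E.map m.hom)
  refine ⟨E.map m.hom ⁻¹ᵁ W y, _, κ y (E.map m.hom), ho, hy, hr.le, ?_⟩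
  let r : m ⟶ a y := (hm (Finset.mem_insert_of_mem (Finset.mem_image_of_mem a hyT))).some
  haveI : CompactSpace ↥((f ⁻¹ᵁ W y) : Scheme.{u}) :=
    isCompact_iff_compactSpace.1 (f.isCompact_preimage (hW y).isCompact)
  haveI : CompactSpace ↥(pullback ((f ⁻¹ᵁ W y).ι ≫ f) (E.map m.hom)) := MorLib.BC.compactSpace_obj E _ m
  haveI : IsAffineHom ((MorLib.BC.diag E ((f ⁻¹ᵁ W y).ι ≫ f)).map r) := MorLib.BC.isAffineHom_map E _ r
  haveI := ho
  exact AmpleX.isAmple_of_iso ((Scheme.Modules.pullbackComp _ _).app M ≪≫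
    (Scheme.Modules.pullbackCongr (by rw [← Category.assoc, MorLib.BC.map_fst, hw])).app M ≪≫
    ((Scheme.Modules.pullbackComp _ _).app M).symm ≪≫
    ((Scheme.Modules.restrictFunctorIsoPullback _).app _).symm)
    (AmpleVan.FiniteSurj.isAmple_pullback_of_isAffineHom ((MorLib.BC.diag E ((f ⁻¹ᵁ W y).ι ≫ f)).map r) (ha y))

end Groth.Agent.AmpleDesc5
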